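import Cfsg.Agent.Lib.M24Module.Classes

/-!
Fixed points of elements of order two, three and seven of `M24`, and conjugacy by their number.
-/

set_option autoImplicit false
set_option maxRecDepth 10000

namespace Cfsg.Agent.M24Module.FixCount

open Cfsg Cfsg.Agent.Golay.Basic Cfsg.Agent.Golay.M24 Cfsg.Agent.Golay.M24Data Cfsg.Agent.Golay.Cert
  Cfsg.Agent.M24Module.ClassData Cfsg.Agent.M24Module.Classes
open scoped Pointwise

/-- The fixed points of a permutation. -/
def fixSet (g : Equiv.Perm GolayPt) : Finset GolayPt := Finset.univ.filter fun p => g p = p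

theorem mem_fixSet {g : Equiv.Perm GolayPt} {p : GolayPt} : p ∈ fixSet g ↔ g p = p := by
  simp [fixSet]

theorem fixSet_conj (k g : Equiv.Perm GolayPt) : fixSet (k * g * k⁻¹) = k • fixSet g := by
  ext p
  have h : p ∈ k • fixSet g ↔ k⁻¹ p ∈ fixSet g := by
    conv_lhs => rw [show p = k (k⁻¹ p) by simp]
    exact mem_smul_iff _ _ _
  rw [h, mem_fixSet, mem_fixSet]
  simp only [Equiv.Perm.mul_apply]
  exact Equiv.Perm.eq_inv_iff_eq.symm

/-- The mask of the fixed points of a table. -/
def fixMask (c : ℕ) : ℕ :=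
  Nat.ofBits fun i : Fin 24 => tabAt c i.1 == i.1

theorem fixSet_tab {c : ℕ} {g : Equiv.Perm GolayPt} (h : IsTab c g) : mask (fixSet g) = fixMask c := by
  apply Nat.eq_of_testBit_eq
  intro i
  rcases Nat.lt_or_ge i 24 with hi | hi
  · rw [← ix_pt hi, testBit_mask, fixMask, Nat.testBit_ofBits_lt _ _ (ix_lt _), Bool.eq_iff_iff,
      decide_eq_true_eq, mem_fixSet, beq_iff_eq]
    show g (pt i) = pt i ↔ tabAt c (ix (pt i)) = ix (pt i)
    rw [← h]
    exact ⟨fun e => by rw [e], fun e => ix_injective e⟩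
  · rw [testBit_mask_ge _ hi, fixMask, Nat.testBit_ofBits_ge _ _ hi]

theorem rep_facts :
    twoReps.all (fun r => tabOK r && (fixMask r == 0 || (fixMask r == baseOctad))) = true ∧
    threeReps.map (fun r => pc (fixMask r)) = [6, 0] ∧
    sevenReps.map (fun r => pc (fixMask r)) = [3, 3] ∧ twoReps.map fixMask = [baseOctad, 0] ∧
    threeReps.all tabOK = true ∧ sevenReps.all tabOK = true := by decide +kernel

theorem card_fix_conj {k g : Equiv.Perm GolayPt} {r : ℕ} (hr : tabOK r = true)
    (e : k * g * k⁻¹ = tabPerm r) : (fixSet g).card = pc (fixMask r) := by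
  rw [← fixSet_tab (isTab_tabPerm hr), ← e, fixSet_conj, ← card_eq_pc, Finset.card_smul_finset]

/-- Order two: the fixed points form an octad or there are none; the count determines the class. -/
theorem two_fix {g : Equiv.Perm GolayPt} (hg : g ∈ M24) (h2 : orderOf g = 2) :
    fixSet g ∈ octads ∨ fixSet g = ∅ := by
  obtain ⟨k, hk, r, hr, e⟩ := classify_two hg h2
  have h := List.all_eq_true.1 rep_facts.1 r hr
  simp only [Bool.and_eq_true, Bool.or_eq_true, beq_iff_eq] at h
  obtain ⟨htab, h⟩ := h
  have hs : mask (k • fixSet g) = fixMask r := by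
    rw [← fixSet_conj, e, fixSet_tab (isTab_tabPerm htab)]
  rcases h with h | h
  · right
    rw [h, ← mask_empty] at hs
    exact Finset.smul_finset_eq_empty.1 (mask_injective hs)
  · left
    rw [h, ← mask_maskSet (show baseOctad < 2 ^ 24 by decide +kernel)] at hs
    have : fixSet g = k⁻¹ • maskSet baseOctad := by rw [← mask_injective hs, inv_smul_smul]
    rw [this]
    exact smul_mem_octads (M24.inv_mem hk) Cfsg.Agent.Golay.Orbit.o0_mem

/-- A representative with a given fixed point count is unique. -/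
theorem rep_eq {reps : List ℕ}
    (hnd : (reps.map fun r => pc (fixMask r)).Nodup) (hok : reps.all tabOK = true)
    {g : Equiv.Perm GolayPt} (hcl : ∃ k ∈ M24, ∃ r ∈ reps, k * g * k⁻¹ = tabPerm r)
    {r : ℕ} (hr : r ∈ reps) (hc : (fixSet g).card = pc (fixMask r)) :
    ∃ k ∈ M24, k * g * k⁻¹ = tabPerm r := by
  obtain ⟨k, hk, r', hr', e⟩ := hcl
  have := card_fix_conj (List.all_eq_true.1 hok r' hr') e
  obtain rfl : r' = r := List.inj_on_of_nodup_map hnd hr' hr (this.symm.trans hc)
  exact ⟨k, hk, e⟩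

theorem conj_of_fix {reps : List ℕ} (hnd : (reps.map fun r => pc (fixMask r)).Nodup)
    (hok : reps.all tabOK = true) {g h : Equiv.Perm GolayPt}
    (hg : ∃ k ∈ M24, ∃ r ∈ reps, k * g * k⁻¹ = tabPerm r)
    (hh : ∃ k ∈ M24, ∃ r ∈ reps, k * h * k⁻¹ = tabPerm r)
    (hc : (fixSet g).card = (fixSet h).card) : ∃ k ∈ M24, k * g * k⁻¹ = h := by
  obtain ⟨a, ha, r, hr, e⟩ := hg
  obtain ⟨b, hb, e'⟩ := rep_eq hnd hok hh hr
    (hc.symm.trans (card_fix_conj (List.all_eq_true.1 hok r hr) e))
  refine ⟨b⁻¹ * a, M24.mul_mem (M24.inv_mem hb) ha, ?_⟩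
  calc b⁻¹ * a * g * (b⁻¹ * a)⁻¹ = b⁻¹ * (a * g * a⁻¹) * b := by group
    _ = h := by rw [e, ← e']; group

theorem two_reps_nodup : (twoReps.map fun r => pc (fixMask r)).Nodup ∧ twoReps.all tabOK = true := by
  decide +kernel

theorem three_reps_nodup :
    (threeReps.map fun r => pc (fixMask r)).Nodup ∧ threeReps.all tabOK = true := by decide +kernel

theorem three_fix {g : Equiv.Perm GolayPt} (hg : g ∈ M24) (h3 : orderOf g = 3) :
    (fixSet g).card = 6 ∨ (fixSet g).card = 0 := by
  obtain ⟨k, hk, r, hr, e⟩ := classify_three hg h3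
  rw [card_fix_conj (List.all_eq_true.1 three_reps_nodup.2 r hr) e]
  have : pc (fixMask r) ∈ threeReps.map (fun r => pc (fixMask r)) := List.mem_map.2 ⟨r, hr, rfl⟩
  rw [rep_facts.2.1] at this
  simpa using this

theorem orderOf_conj' (k g : Equiv.Perm GolayPt) : orderOf (k * g * k⁻¹) = orderOf g :=
  (MulAut.conj k).orderOf_eq g

/-- The two representative involutions as elements. -/
theorem two_rep_orders :
    twoReps.all (fun r => (List.range 24).all (fun i => powAt r 2 i == i) &&
      ((List.range 24).any fun i => !(tabAt r i == i))) = true ∧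
    threeReps.all (fun r => (List.range 24).all (fun i => powAt r 3 i == i) &&
      ((List.range 24).any fun i => !(tabAt r i == i))) = true := by decide +kernel

theorem orderOf_rep {p r : ℕ} [hp : Fact p.Prime] (hr : tabOK r = true)
    (h : ((List.range 24).all (fun i => powAt r p i == i) &&
      ((List.range 24).any fun i => !(tabAt r i == i))) = true) :
    orderOf (tabPerm r) = p := by
  simp only [Bool.and_eq_true, List.all_eq_true, List.any_eq_true, List.mem_range, beq_iff_eq,
    Bool.not_eq_true', beq_eq_false_iff_ne] at h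
  obtain ⟨h1, i, hi, h2⟩ := h
  refine orderOf_eq_prime (Equiv.ext fun q => ix_injective ?_) fun e => h2 ?_
  · rw [ix_pow (isTab_tabPerm hr), h1 _ (ix_lt q), Equiv.Perm.one_apply]
  · have := isTab_tabPerm hr (pt i)
    rw [e, Equiv.Perm.one_apply, ix_pt hi] at this
    exact this.symm

end Cfsg.Agent.M24Module.FixCount
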