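import Cfsg.Agent.Lib.Golay.SetOrbit
import Cfsg.Agent.Lib.Golay.Coset
import Cfsg.Agent.Lib.Golay.OrbitData

/-!
The binary permutation module of `M24` on the twenty-four points: invariant subspaces,
fixed cosets of the code.
-/

set_option autoImplicit false
set_option maxRecDepth 10000

namespace Cfsg.Agent.M24Module.Basic

open Cfsg Cfsg.Agent.Golay.Basic Cfsg.Agent.Golay.Design Cfsg.Agent.Golay.M24
  Cfsg.Agent.Golay.Trans Cfsg.Agent.Golay.M24Data Cfsg.Agent.Golay.Cert Cfsg.Agent.Golay.Orbit
  Cfsg.Agent.Golay.OrbitData Cfsg.Agent.Golay.Coset Cfsg.Agent.Golay.SetOrbit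
open scoped Pointwise

/-- The action on words. -/
def permW (σ : Equiv.Perm GolayPt) (w : GolayPt → ZMod 2) : GolayPt → ZMod 2 :=
  fun p => w (σ.symm p)

theorem permW_word (σ : Equiv.Perm GolayPt) (s : Finset GolayPt) :
    permW σ (word s) = word (σ • s) := by
  funext p
  have h : σ.symm p ∈ s ↔ p ∈ σ • s := by
    have := mem_smul_iff σ s (σ.symm p)
    rw [Equiv.apply_symm_apply] at this
    exact this.symm
  simp only [permW, word, h]

theorem permW_mul (σ τ : Equiv.Perm GolayPt) (w : GolayPt → ZMod 2) :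
    permW (σ * τ) w = permW σ (permW τ w) := rfl

theorem permW_one (w : GolayPt → ZMod 2) : permW 1 w = w := rfl

theorem permW_sub (σ : Equiv.Perm GolayPt) (v w : GolayPt → ZMod 2) :
    permW σ (v - w) = permW σ v - permW σ w := rfl

theorem word_mem_code {s : Finset GolayPt} : word s ∈ golayCode ↔ s ∈ codeSets := by
  rw [mem_code_iff, support₂_word, mem_supports_iff]

theorem permW_mem_code {σ : Equiv.Perm GolayPt} (hσ : σ ∈ M24) {w : GolayPt → ZMod 2}
    (hw : w ∈ golayCode) : permW σ w ∈ golayCode := by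
  rw [← word_support₂ w] at hw ⊢
  rw [permW_word, word_mem_code]
  exact smul_mem_supports hσ (word_mem_code.1 hw)

theorem permW_sub_mem_iff (σ : Equiv.Perm GolayPt) (w : GolayPt → ZMod 2) :
    permW σ w - w ∈ golayCode ↔
      isCode (mask (σ • support₂ w) ^^^ mask (support₂ w)) = true := by
  rw [sub_mem_iff, ← word_support₂ w, permW_word, support₂_word, support₂_word]

theorem word_empty : word (∅ : Finset GolayPt) = 0 := funext fun p => by simp [word]

theorem word_univ : word (Finset.univ : Finset GolayPt) = 1 := funext fun p => by simp [word]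

theorem word_compl (s : Finset GolayPt) : word sᶜ = word s + 1 := by
  funext p
  have h2 : (1 : ZMod 2) + 1 = 0 := by decide
  by_cases h : p ∈ s <;> simp [word, h, h2]

theorem add_self_word (w : GolayPt → ZMod 2) : w + w = 0 := by
  funext p
  have : ∀ a : ZMod 2, a + a = 0 := by decide
  exact this _

theorem exists_smul_eq {s t : Finset GolayPt} {k : ℕ} (hs : s.card = k) (ht : t.card = k)
    (hk : k ≤ 5) : ∃ g ∈ M24, g • s = t := by
  obtain ⟨a, ha, hao⟩ := exists_smul_small hs hk
  obtain ⟨b, hb, hbo⟩ := exists_smul_small ht hk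
  exact ⟨b⁻¹ * a, M24.mul_mem (M24.inv_mem hb) ha,
    by rw [mul_smul, hao, ← hbo, inv_smul_smul]⟩

theorem exists_fix_move {l : List GolayPt} (hl : l.Nodup) (h4 : l.length ≤ 4) {p q : GolayPt}
    (hp : p ∉ l) (hq : q ∉ l) : ∃ g ∈ M24, (∀ x ∈ l, g x = x) ∧ g p = q := by
  have hp' : (p :: l).Nodup := List.nodup_cons.2 ⟨hp, hl⟩
  have hq' : (q :: l).Nodup := List.nodup_cons.2 ⟨hq, hl⟩
  let e : Fin (l.length + 1) ↪ GolayPt := ⟨(p :: l).get, List.nodup_iff_injective_get.1 hp'⟩
  let f : Fin (l.length + 1) ↪ GolayPt := ⟨(q :: l).get, List.nodup_iff_injective_get.1 hq'⟩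
  obtain ⟨g, hg, h⟩ := exists_map_tuple (by omega) e f
  refine ⟨g, hg, fun x hx => ?_, h ⟨0, by omega⟩⟩
  obtain ⟨i, hi, rfl⟩ := List.mem_iff_getElem.1 hx
  exact h ⟨i + 1, by omega⟩

/-- A code word nonzero and nonconstant has weight 8, 12 or 16. -/
theorem weight_cases {s : Finset GolayPt} (hs : s ∈ codeSets) (h0 : s ≠ ∅)
    (h1 : s ≠ Finset.univ) : s ∈ octads ∨ s ∈ dodecads ∨ sᶜ ∈ octads := by
  have hc : sᶜ ∈ codeSets := by
    rw [mem_supports_iff, mask_compl]
    exact isCode_xor (mem_supports_iff.1 hs) (by decide +kernel)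
  rcases weights_supports hs with h | h | h | h | h
  · exact absurd (Finset.card_eq_zero.1 h) h0
  · exact Or.inl ⟨hs, h⟩
  · exact Or.inr (Or.inl ⟨hs, h⟩)
  · refine Or.inr (Or.inr ⟨hc, ?_⟩)
    rw [Finset.card_compl, h]; decide
  · exact absurd ((Finset.card_eq_iff_eq_univ s).1 (h.trans (by decide))) h1

theorem basis_octads : ∀ b ∈ basisMasks, maskSet b ∈ octads := by
  intro b hb
  refine mem_octads_iff.2 ?_
  revert b
  decide +kernel

theorem word_enc_mem {W : Submodule (ZMod 2) (GolayPt → ZMod 2)} : ∀ (L : List ℕ),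
    (∀ b ∈ L, word (maskSet b) ∈ W) → ∀ a, word (maskSet (enc L a)) ∈ W
  | [], _, _ => by
    simp only [enc]
    rw [show maskSet 0 = ∅ by decide, word_empty]
    exact zero_mem _
  | c :: cs, h, a => by
    simp only [enc]
    rw [mask_maskSet_xor, word_symmDiff]
    refine add_mem ?_ (word_enc_mem cs (fun b hb => h b (List.mem_cons_of_mem _ hb)) _)
    rcases Nat.mod_two_eq_zero_or_one a with ha | ha
    · rw [ha, zero_mul, show maskSet 0 = ∅ by decide, word_empty]
      exact zero_mem _
    · rw [ha, one_mul]; exact h c List.mem_cons_self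

/-- Invariance of a subspace. -/
def Invariant (W : Submodule (ZMod 2) (GolayPt → ZMod 2)) : Prop :=
  ∀ σ ∈ M24, ∀ w ∈ W, permW σ w ∈ W

variable {W : Submodule (ZMod 2) (GolayPt → ZMod 2)}

theorem smul_word_mem (hW : Invariant W) {σ : Equiv.Perm GolayPt} (hσ : σ ∈ M24)
    {s : Finset GolayPt} (hs : word s ∈ W) : word (σ • s) ∈ W := by
  rw [← permW_word]; exact hW σ hσ _ hs

theorem symmDiff_word_mem {s t : Finset GolayPt} (hs : word s ∈ W) (ht : word t ∈ W) :
    word (symmDiff s t) ∈ W := by
  rw [word_symmDiff]; exact add_mem hs ht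

theorem code_le_of_octad (hW : Invariant W) {o : Finset GolayPt} (ho : o ∈ octads)
    (h : word o ∈ W) : golayCode ≤ W := by
  have hall : ∀ o' ∈ octads, word o' ∈ W := fun o' ho' => by
    obtain ⟨g, hg, rfl⟩ := octads_transitive ho ho'
    exact smul_word_mem hW hg h
  intro w hw
  have h1 : isCode (mask (support₂ w)) = true := mem_code_iff.1 hw
  simp only [isCode, beq_iff_eq] at h1
  rw [← word_support₂ w, ← maskSet_mask (support₂ w), ← h1]
  exact word_enc_mem _ (fun b hb => hall _ (basis_octads b hb)) _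

theorem dodecad_partner : ∃ g ∈ M24, symmDiff (maskSet baseDodecad) (g • maskSet baseDodecad) ∈ octads := by
  have h : codeList.any (fun m => pc m == 12 && pc (baseDodecad ^^^ m) == 8 && decide (m < 2 ^ 24)) =
      true := by decide +kernel
  simp only [List.any_eq_true, Bool.and_eq_true, beq_iff_eq, decide_eq_true_eq] at h
  obtain ⟨m, hm, ⟨h12, h8⟩, hlt⟩ := h
  have hd : maskSet m ∈ dodecads :=
    mem_dodecads_iff.2 ⟨by rw [mask_maskSet hlt]; exact isCode_of_mem_codeList hm,
      by rw [card_maskSet, h12]⟩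
  obtain ⟨g, hg, e⟩ := dodecads_transitive baseDodecad_mem hd
  refine ⟨g, hg, mem_octads_iff.2 ?_⟩
  rw [e, card_eq_pc, mask_symmDiff, mask_maskSet hlt, mask_maskSet (by decide +kernel)]
  exact ⟨isCode_xor (by decide +kernel) (isCode_of_mem_codeList hm), h8⟩

theorem octad_partner : ∃ g ∈ M24, symmDiff (maskSet baseOctad) (g • maskSet baseOctad) ∈ octads := by
  have h : codeList.any (fun m => pc m == 8 && pc (baseOctad ^^^ m) == 8 && decide (m < 2 ^ 24)) =
      true := by decide +kernel
  simp only [List.any_eq_true, Bool.and_eq_true, beq_iff_eq, decide_eq_true_eq] at h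
  obtain ⟨m, hm, ⟨h12, h8⟩, hlt⟩ := h
  have hd : maskSet m ∈ octads :=
    mem_octads_iff.2 ⟨by rw [mask_maskSet hlt]; exact isCode_of_mem_codeList hm,
      by rw [card_maskSet, h12]⟩
  obtain ⟨g, hg, e⟩ := octads_transitive o0_mem hd
  refine ⟨g, hg, mem_octads_iff.2 ?_⟩
  rw [show maskSet baseOctad = o0 from rfl] at *
  rw [e, card_eq_pc, mask_symmDiff, mask_maskSet hlt, mask_maskSet (by decide +kernel)]
  exact ⟨isCode_xor (by decide +kernel) (isCode_of_mem_codeList hm), h8⟩

/-- A nonconstant code word generates the code as a module. -/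
theorem code_le_of_mem (hW : Invariant W) {s : Finset GolayPt} (hs : s ∈ codeSets) (h0 : s ≠ ∅)
    (h1 : s ≠ Finset.univ) (h : word s ∈ W) : golayCode ≤ W := by
  rcases weight_cases hs h0 h1 with ho | hd | ho
  · exact code_le_of_octad hW ho h
  · obtain ⟨a, ha, e⟩ := dodecads_transitive hd baseDodecad_mem
    have hb : word (maskSet baseDodecad) ∈ W := e ▸ smul_word_mem hW ha h
    obtain ⟨g, hg, ho⟩ := dodecad_partner
    exact code_le_of_octad hW ho (symmDiff_word_mem hb (smul_word_mem hW hg hb))
  · obtain ⟨a, ha, e⟩ := octads_transitive ho o0_mem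
    have hb : word (a • s) ∈ W := smul_word_mem hW ha h
    have hcompl : a • s = (maskSet baseOctad)ᶜ := by
      rw [show maskSet baseOctad = o0 from rfl, ← e]
      ext p
      have h1 := mem_smul_iff a s (a.symm p)
      have h2 := mem_smul_iff a sᶜ (a.symm p)
      rw [Equiv.apply_symm_apply] at h1 h2
      rw [Finset.mem_compl, h1, h2, Finset.mem_compl, not_not]
    obtain ⟨g, hg, hoct⟩ := octad_partner
    refine code_le_of_octad hW hoct ?_
    have hb' := smul_word_mem hW hg hb
    rw [hcompl] at hb hb'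
    rw [← permW_word] at hb'
    rw [word_symmDiff, ← permW_word]
    rw [word_compl] at hb hb'
    have e2 : permW g (word (maskSet baseOctad) + 1) = permW g (word (maskSet baseOctad)) + 1 := rfl
    rw [e2] at hb'
    have := add_mem hb hb'
    rwa [add_add_add_comm, add_self_word, add_zero] at this

/-- The even words. -/
def evenSub : Submodule (ZMod 2) (GolayPt → ZMod 2) where
  carrier := {w | ∑ p, w p = 0}
  zero_mem' := by simp
  add_mem' := by
    intro a b ha hb
    simp only [Set.mem_setOf_eq] at ha hb ⊢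
    simp only [Pi.add_apply, Finset.sum_add_distrib, ha, hb, add_zero]
  smul_mem' := by
    intro c a ha
    simp only [Set.mem_setOf_eq] at ha ⊢
    simp only [Pi.smul_apply, ← Finset.smul_sum, ha, smul_zero]

theorem sum_word (s : Finset GolayPt) : ∑ p, word s p = (s.card : ZMod 2) := by
  simp [word]

theorem code_le_even : golayCode ≤ evenSub := by
  intro w hw
  rw [← word_support₂ w]
  show ∑ p, word (support₂ w) p = 0
  rw [sum_word]
  rcases weights_supports (s := support₂ w) ⟨w, hw, rfl⟩ with h | h | h | h | h <;> rw [h] <;> decide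

theorem pair_mem_of_small (hW : Invariant W) {s : Finset GolayPt} (h0 : 1 ≤ s.card)
    (h4 : s.card ≤ 4) (h : word s ∈ W) {a b : GolayPt} (hab : a ≠ b) : word {a, b} ∈ W := by
  classical
  obtain ⟨u, -, huc, huk⟩ : ∃ u, (∅ : Finset GolayPt) ⊆ u ∧ u ⊆ ({a, b} : Finset GolayPt)ᶜ ∧
      u.card = s.card - 1 :=
    Finset.exists_subsuperset_card_eq (Finset.empty_subset _) (by simp)
      (by rw [Finset.card_compl, Finset.card_pair hab,
        show Fintype.card GolayPt = 24 by decide]; omega)
  have hau : a ∉ u := fun hx => by simpa using huc hx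
  have hbu : b ∉ u := fun hx => by simpa using huc hx
  have hk : ∀ c, c ∉ u → word (insert c u) ∈ W := fun c hc => by
    obtain ⟨g, hg, e⟩ := exists_smul_eq (t := insert c u) (k := s.card) rfl
      (by rw [Finset.card_insert_of_notMem hc, huk]; omega) (by omega)
    exact e ▸ smul_word_mem hW hg h
  have := symmDiff_word_mem (hk a hau) (hk b hbu)
  have e : symmDiff (insert a u) (insert b u) = {a, b} := by
    ext x
    simp only [Finset.mem_symmDiff, Finset.mem_insert, Finset.mem_singleton]
    by_cases hxu : x ∈ u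
    · have h1 : x ≠ a := fun e => hau (e ▸ hxu)
      have h2 : x ≠ b := fun e => hbu (e ▸ hxu)
      simp [hxu, h1, h2]
    · by_cases hxa : x = a
      · subst hxa; simp [hxu, hab]
      · simp [hxu, hxa]
  rwa [e] at this

theorem even_le_of_pairs (h : ∀ a b : GolayPt, a ≠ b → word {a, b} ∈ W) : evenSub ≤ W := by
  intro w hw
  have hsum : ∑ p, w p = 0 := hw
  have key : w = ∑ p, w p • (word ({p} : Finset GolayPt) + word {none}) := by
    funext q
    simp only [Finset.sum_apply, Pi.smul_apply, Pi.add_apply, smul_eq_mul, mul_add,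
      Finset.sum_add_distrib, ← Finset.sum_mul, hsum, zero_mul, add_zero]
    simp [word]
  rw [key]
  refine Submodule.sum_mem _ fun p _ => W.smul_mem _ ?_
  by_cases hp : p = none
  · subst hp; rw [add_self_word]; exact zero_mem _
  · rw [← word_symmDiff]
    have : symmDiff ({p} : Finset GolayPt) {none} = {p, none} := by
      ext x
      simp only [Finset.mem_symmDiff, Finset.mem_insert, Finset.mem_singleton]
      by_cases hx : x = p
      · subst hx; simp [hp]
      · simp [hx]
    rw [this]
    exact h _ _ hp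

theorem even_le_of_small (hW : Invariant W) {s : Finset GolayPt} (h0 : 1 ≤ s.card)
    (h4 : s.card ≤ 4) (h : word s ∈ W) : evenSub ≤ W :=
  even_le_of_pairs fun _ _ hab => pair_mem_of_small hW h0 h4 h hab

theorem even_le_of_compl (hW : Invariant W) {s : Finset GolayPt} (h0 : 1 ≤ s.card)
    (h4 : s.card ≤ 4) (h : word s + 1 ∈ W) : evenSub ≤ W := by
  classical
  obtain ⟨b, hb⟩ := Finset.card_pos.1 h0
  obtain ⟨a, ha⟩ : ∃ a, a ∉ s := by
    by_contra hall
    simp only [not_exists, not_not] at hall
    rw [show s = Finset.univ from Finset.eq_univ_iff_forall.2 hall] at h4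
    revert h4; decide
  have hc : (insert a (s.erase b)).card = s.card := by
    rw [Finset.card_insert_of_notMem (by simp [ha]), Finset.card_erase_of_mem hb]; omega
  obtain ⟨g, hg, e⟩ := exists_smul_eq (k := s.card) rfl hc (by omega)
  have hg' : permW g (word s + 1) ∈ W := hW g hg _ h
  have e1 : permW g (word s + 1) = word (g • s) + 1 := by
    rw [← permW_word]; rfl
  rw [e1, e] at hg'
  have := add_mem h hg'
  rw [add_add_add_comm, add_self_word, add_zero, ← word_symmDiff] at this
  have hab : b ≠ a := fun e => ha (e ▸ hb)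
  have e2 : symmDiff s (insert a (s.erase b)) = {b, a} := by
    ext x
    simp only [Finset.mem_symmDiff, Finset.mem_insert, Finset.mem_erase, Finset.mem_singleton]
    by_cases hxb : x = b
    · subst hxb; simp [hb, hab]
    · by_cases hxa : x = a
      · subst hxa; simp [ha]
      · simp [hxa, hxb]
  rw [e2] at this
  exact even_le_of_small hW (s := {b, a}) (by simp [Finset.card_pair hab])
    (by simp [Finset.card_pair hab]) this

theorem sub_eq_add' (u v : GolayPt → ZMod 2) : u - v = u + v := by
  funext p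
  have : ∀ a b : ZMod 2, a - b = a + b := by decide
  exact this _ _

/-- An invariant subspace outside the code contains the even words. -/
theorem even_le_of_not_code (hW : Invariant W) {w : GolayPt → ZMod 2} (hw : w ∈ W)
    (hwc : w ∉ golayCode) : evenSub ≤ W := by
  classical
  obtain ⟨t, ht, htc⟩ := exists_low (support₂ w)
  have hdef : w + word t ∈ golayCode := by
    rw [mem_code_iff, support₂_add, support₂_word, mask_symmDiff]; exact htc
  have ht1 : 1 ≤ t.card := by
    rcases Nat.eq_zero_or_pos t.card with h | h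
    · exact absurd (by simpa [Finset.card_eq_zero.1 h, word_empty] using hdef) hwc
    · exact h
  obtain ⟨c, hc, hwc'⟩ : ∃ c, c ∈ codeSets ∧ w = word c + word t :=
    ⟨support₂ (w + word t), ⟨_, hdef, rfl⟩, by
      rw [word_support₂, add_assoc, add_self_word, add_zero]⟩
  by_cases hc0 : c = ∅
  · exact even_le_of_small hW ht1 ht (by simpa [hwc', hc0, word_empty] using hw)
  by_cases hc1 : c = Finset.univ
  · exact even_le_of_compl hW ht1 ht (by simpa [hwc', hc1, word_univ, add_comm] using hw)
  obtain ⟨p, hp, q, hq, hpc, hqc⟩ : ∃ p, p ∉ t ∧ ∃ q, q ∉ t ∧ p ∈ c ∧ q ∉ c := by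
    have hcard : 8 ≤ c.card ∧ c.card ≤ 16 := by
      rcases weight_cases hc hc0 hc1 with h | h | h
      · rw [h.2]; omega
      · rw [h.2]; omega
      · have := h.2
        rw [Finset.card_compl, show Fintype.card GolayPt = 24 by decide] at this; omega
    obtain ⟨p, hp⟩ : (c \ t).Nonempty := by
      rw [← Finset.card_pos]
      have := Finset.card_le_card_sdiff_add_card (s := c) (t := t); omega
    obtain ⟨q, hq⟩ : (cᶜ \ t).Nonempty := by
      rw [← Finset.card_pos]
      have h1 := Finset.card_le_card_sdiff_add_card (s := cᶜ) (t := t)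
      rw [Finset.card_compl, show Fintype.card GolayPt = 24 by decide] at h1; omega
    simp only [Finset.mem_sdiff, Finset.mem_compl] at hp hq
    exact ⟨p, hp.2, q, hq.2, hp.1, hq.1⟩
  obtain ⟨g, hg, hfix, hgp⟩ := exists_fix_move t.nodup_toList (by simpa using ht)
    (p := p) (q := q) (by simpa using hp) (by simpa using hq)
  have hgt : g • t = t := by
    refine Finset.eq_of_subset_of_card_le ?_ (by rw [Finset.card_smul_finset])
    intro y hy
    rw [smul_finset_def, Finset.mem_image] at hy
    obtain ⟨z, hz, rfl⟩ := hy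
    rwa [hfix z (Finset.mem_toList.2 hz)]
  have hgc : g • c ≠ c := by
    intro e
    apply hqc
    rw [← e, ← hgp]
    exact (mem_smul_iff g c p).2 hpc
  have hd : word (symmDiff c (g • c)) ∈ W := by
    have h2 : permW g w ∈ W := hW g hg _ hw
    have e : permW g w = word (g • c) + word t := by
      rw [hwc', ← permW_word]
      conv_rhs => rw [show word t = word (g • t) by rw [hgt], ← permW_word]
      rfl
    rw [e] at h2
    rw [hwc'] at hw
    have := add_mem hw h2
    rwa [add_add_add_comm, add_self_word, add_zero, ← word_symmDiff] at this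
  obtain ⟨b, hb⟩ := Finset.card_pos.1 ht1
  have hle : golayCode ≤ W := by
    refine code_le_of_mem hW (symmDiff_mem_supports hc (smul_mem_supports hg hc))
      (fun e => hgc (symmDiff_eq_bot.1 e).symm) (fun e => ?_) hd
    have hbm : b ∈ symmDiff c (g • c) := e ▸ Finset.mem_univ b
    have hiff : b ∈ g • c ↔ b ∈ c := by
      have h := mem_smul_iff g c b
      rwa [hfix b (Finset.mem_toList.2 hb)] at h
    rw [Finset.mem_symmDiff, hiff] at hbm
    tauto
  refine even_le_of_small hW ht1 ht ?_
  have := add_mem hw (hle (word_mem_code.2 hc))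
  rwa [hwc', add_comm (word c), add_assoc, add_self_word, add_zero] at this

/-- The classification of invariant subspaces. -/
theorem invariant_cases (hW : Invariant W) :
    W = ⊥ ∨ W = Submodule.span (ZMod 2) {(fun _ => 1 : GolayPt → ZMod 2)} ∨ W = golayCode ∨
      W = evenSub ∨ W = ⊤ := by
  by_cases hsub : W ≤ golayCode
  · by_cases hbig : ∃ w ∈ W, w ≠ 0 ∧ w ≠ 1
    · obtain ⟨w, hw, h0, h1⟩ := hbig
      refine Or.inr (Or.inr (Or.inl (le_antisymm hsub ?_)))
      refine code_le_of_mem hW (s := support₂ w) ⟨w, hsub hw, rfl⟩ (fun e => h0 ?_) (fun e => h1 ?_)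
        (by rwa [word_support₂])
      · rw [← word_support₂ w, e, word_empty]
      · rw [← word_support₂ w, e, word_univ]
    · have hall : ∀ w ∈ W, w = 0 ∨ w = 1 := fun w hw => by
        by_contra h
        exact hbig ⟨w, hw, fun e => h (Or.inl e), fun e => h (Or.inr e)⟩
      by_cases h1 : (1 : GolayPt → ZMod 2) ∈ W
      · refine Or.inr (Or.inl (le_antisymm (fun w hw => ?_) ?_))
        · rcases hall w hw with rfl | rfl
          · exact zero_mem _
          · exact Submodule.subset_span rfl
        · rw [Submodule.span_le]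
          rintro _ rfl
          exact h1
      · refine Or.inl (eq_bot_iff.2 fun w hw => ?_)
        rcases hall w hw with rfl | rfl
        · exact zero_mem _
        · exact absurd hw h1
  · obtain ⟨w, hw, hwc⟩ := SetLike.not_le_iff_exists.1 hsub
    have hle := even_le_of_not_code hW hw hwc
    by_cases htop : W ≤ evenSub
    · exact Or.inr (Or.inr (Or.inr (Or.inl (le_antisymm htop hle))))
    · obtain ⟨v, hv, hvc⟩ := SetLike.not_le_iff_exists.1 htop
      refine Or.inr (Or.inr (Or.inr (Or.inr (eq_top_iff.2 fun u _ => ?_))))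
      have h2 : ∀ a : ZMod 2, a ≠ 0 → a = 1 := by decide
      by_cases hu : u ∈ evenSub
      · exact hle hu
      · have hsum : u + v ∈ evenSub := by
          show ∑ p, (u p + v p) = 0
          rw [Finset.sum_add_distrib, h2 _ hu, h2 _ hvc]; decide
        have := add_mem (hle hsum) hv
        rwa [add_assoc, add_self_word, add_zero] at this

/-- No nonzero coset is fixed by all the tables. -/
def noFixedCoset (X : List ℕ) : Bool :=
  (List.range 4096).all fun r => r == 0 ||
    X.any fun x => !(isCode (imgTab x (r * 4096) ^^^ r * 4096))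

theorem moved_of_noFixed {X : List ℕ} (hX : X.all tabOK = true) (h : noFixedCoset X = true)
    {w : GolayPt → ZMod 2} (hw : w ∉ golayCode) :
    ∃ g ∈ tabGroup X, permW g w - w ∉ golayCode := by
  obtain ⟨m, hm⟩ : ∃ m, m = mask (support₂ w) := ⟨_, rfl⟩
  have hnc : ¬ isCode m = true := fun e => hw (mem_code_iff.2 (hm ▸ e))
  have hcm : isCode (enc basisMasks m) = true := by simp [isCode, enc_idem]
  obtain ⟨m', hm'⟩ : ∃ m', m' = m ^^^ enc basisMasks m := ⟨_, rfl⟩
  have henc_lt : enc basisMasks m < 2 ^ 24 :=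
    of_decide_eq_true (forall_code (P := fun x => decide (x < 2 ^ 24)) (by decide +kernel) hcm)
  have hlt : m' < 2 ^ 24 := hm' ▸ Nat.xor_lt_two_pow (hm ▸ mask_lt _) henc_lt
  have hlow : m' % 2 ^ 12 = 0 := by
    rw [hm', Nat.xor_mod_two_pow]
    have hs : ((List.range 4096).all fun a => enc basisMasks a % 4096 == a) = true := by decide +kernel
    have h' : enc basisMasks (m % 4096) % 4096 = m % 4096 := by
      simpa using List.all_eq_true.1 hs (m % 4096) (List.mem_range.2 (Nat.mod_lt _ (by norm_num)))
    rw [show 4096 = 2 ^ basisMasks.length by rfl, enc_mod] at h'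
    rw [show (2 : ℕ) ^ 12 = 2 ^ basisMasks.length by rfl, h', Nat.xor_self]
  have hr : m' = m' / 4096 * 4096 := by
    have := Nat.div_add_mod m' (2 ^ 12)
    omega
  have hr0 : m' / 4096 ≠ 0 := by
    intro e
    rw [e, zero_mul, hm'] at hr
    exact hnc ((Nat.xor_eq_zero_iff.1 hr) ▸ hcm)
  simp only [noFixedCoset, List.all_eq_true, List.mem_range, Bool.or_eq_true, beq_iff_eq,
    List.any_eq_true, Bool.not_eq_true'] at h
  rcases h (m' / 4096) (Nat.div_lt_of_lt_mul (by simpa using hlt)) with e | ⟨x, hx, hxc⟩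
  · exact absurd e hr0
  rw [← hr] at hxc
  have hx' : tabOK x = true := List.all_eq_true.1 hX x hx
  refine ⟨tabPerm x, Subgroup.subset_closure ⟨x, hx, rfl⟩, fun hmem => ?_⟩
  rw [permW_sub_mem_iff, ← hm] at hmem
  have e : imgTab x m' = mask (tabPerm x • support₂ w) ^^^ imgTab x (enc basisMasks m) := by
    have e0 : maskSet m' = symmDiff (support₂ w) (maskSet (enc basisMasks m)) := by
      rw [hm', mask_maskSet_xor]
      conv_lhs => arg 1; rw [hm, maskSet_mask]
    have e1 : imgTab x m' = mask (tabPerm x • maskSet m') := by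
      rw [← imgTab_mask (isTab_tabPerm hx'), mask_maskSet hlt]
    have e3 : imgTab x (enc basisMasks m) = mask (tabPerm x • maskSet (enc basisMasks m)) := by
      rw [← imgTab_mask (isTab_tabPerm hx'), mask_maskSet henc_lt]
    rw [e1, e0, e3, smul_symmDiff, mask_symmDiff]
  have hximg : isCode (imgTab x (enc basisMasks m)) = true := by
    rw [← mask_maskSet henc_lt, imgTab_mask (isTab_tabPerm hx')]
    exact mem_supports_iff.1 (smul_mem_supports (tabPerm_mem hx')
      (mem_supports_iff.2 (by rw [mask_maskSet henc_lt]; exact hcm)))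
  have hgoal := isCode_xor (isCode_xor hmem hximg) hcm
  have e2 : imgTab x m' ^^^ m' = mask (tabPerm x • support₂ w) ^^^ m ^^^
      imgTab x (enc basisMasks m) ^^^ enc basisMasks m := by
    rw [e, hm']; ac_rfl
  rw [e2, hgoal] at hxc
  exact Bool.noConfusion hxc

theorem octTabs_noFixed : octTabs.all tabOK = true ∧ stabOK octTabs [baseOctad] = true ∧
    noFixedCoset octTabs = true := by decide +kernel

theorem dodTabs_noFixed : dodTabs.all tabOK = true ∧ stabOK dodTabs [baseDodecad] = true ∧
    noFixedCoset dodTabs = true := by decide +kernel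

theorem moved_of_transport {X : List ℕ} (hX : X.all tabOK = true) (h : noFixedCoset X = true)
    {s : Finset GolayPt} {a : Equiv.Perm GolayPt} (ha : a ∈ M24)
    (hs : ∀ g ∈ tabGroup X, g • (a • s) = a • s) {w : GolayPt → ZMod 2} (hw : w ∉ golayCode) :
    ∃ σ ∈ M24, σ • s = s ∧ permW σ w - w ∉ golayCode := by
  have hw' : permW a w ∉ golayCode := fun e => hw (by
    have := permW_mem_code (M24.inv_mem ha) e
    have e2 : permW a⁻¹ (permW a w) = w := by rw [← permW_mul, inv_mul_cancel, permW_one]
    rwa [e2] at this)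
  obtain ⟨g, hg, hgm⟩ := moved_of_noFixed hX h hw'
  refine ⟨a⁻¹ * g * a, M24.mul_mem (M24.mul_mem (M24.inv_mem ha) (tabGroup_le_M24 hX hg)) ha,
    ?_, fun e => hgm ?_⟩
  · rw [mul_smul, mul_smul, hs g hg, inv_smul_smul]
  · have := permW_mem_code ha e
    have e2 : permW a (permW (a⁻¹ * g * a) w - w) = permW g (permW a w) - permW a w := by
      rw [permW_sub, ← permW_mul, ← permW_mul g a,
        show a * (a⁻¹ * g * a) = g * a by group]
    rwa [e2] at this

/-- The stabiliser of a code set fixes no nonzero coset. -/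
theorem stabilizer_moves {s : Finset GolayPt} (hs : s ∈ codeSets) {w : GolayPt → ZMod 2}
    (hw : w ∉ golayCode) : ∃ σ ∈ M24, σ • s = s ∧ permW σ w - w ∉ golayCode := by
  by_cases hconst : s = ∅ ∨ s = Finset.univ
  · refine moved_of_transport octTabs_noFixed.1 octTabs_noFixed.2.2 M24.one_mem (fun g _ => ?_) hw
    rw [one_smul]
    rcases hconst with rfl | rfl
    · exact Finset.smul_finset_empty g
    · exact Finset.smul_finset_univ
  rcases not_or.1 hconst with ⟨h0, h1⟩
  rcases weight_cases hs h0 h1 with h | h | h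
  · obtain ⟨a, ha, e⟩ := exists_smul_octad h
    refine moved_of_transport octTabs_noFixed.1 octTabs_noFixed.2.2 ha (fun g hg => ?_) hw
    rw [e]
    exact tabGroup_stab octTabs_noFixed.1 octTabs_noFixed.2.1 (by decide +kernel) List.mem_cons_self hg
  · obtain ⟨a, ha, e⟩ := dodecads_transitive h baseDodecad_mem
    refine moved_of_transport dodTabs_noFixed.1 dodTabs_noFixed.2.2 ha (fun g hg => ?_) hw
    rw [e]
    exact tabGroup_stab dodTabs_noFixed.1 dodTabs_noFixed.2.1 (by decide +kernel) List.mem_cons_self hg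
  · obtain ⟨a, ha, e⟩ := exists_smul_octad h
    obtain ⟨σ, hσ, hfix, hm⟩ := moved_of_transport octTabs_noFixed.1 octTabs_noFixed.2.2 ha
      (s := sᶜ) (fun g hg => by
        rw [e]
        exact tabGroup_stab octTabs_noFixed.1 octTabs_noFixed.2.1 (by decide +kernel)
          List.mem_cons_self hg) hw
    refine ⟨σ, hσ, ?_, hm⟩
    ext p
    have h1 := mem_smul_iff σ s (σ.symm p)
    have h2 := mem_smul_iff σ sᶜ (σ.symm p)
    rw [Equiv.apply_symm_apply] at h1 h2
    rw [hfix, Finset.mem_compl, Finset.mem_compl] at h2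
    rw [h1]; tauto

end Cfsg.Agent.M24Module.Basic
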