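import Cfsg.Agent.Lib.M24Module.ObjOrbit
import Cfsg.Agent.Lib.M24Module.OrbitCerts
import Cfsg.Agent.Lib.M24Module.Basic

/-!
Trios and sextets as configurations: membership, intersection invariants, transitivity.
-/

set_option autoImplicit false
set_option maxRecDepth 10000

namespace Cfsg.Agent.M24Module.Config

open Cfsg Cfsg.Agent.Golay.Basic Cfsg.Agent.Golay.Design Cfsg.Agent.Golay.M24 Cfsg.Agent.Golay.M24Data
  Cfsg.Agent.Golay.Cert Cfsg.Agent.Golay.Orbit Cfsg.Agent.Golay.Trans Cfsg.Agent.Golay.Sextet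
  Cfsg.Agent.M24Module.ObjOrbit
open scoped Pointwise

theorem smul_ne_iff (g : Equiv.Perm GolayPt) {s t : Finset GolayPt} : g • s ≠ g • t ↔ s ≠ t :=
  ⟨fun h e => h (by rw [e]), fun h e => h (MulAction.injective g e)⟩

theorem smul_union' (g : Equiv.Perm GolayPt) (s t : Finset GolayPt) :
    g • (s ∪ t) = g • s ∪ g • t := by
  simp only [smul_finset_def, Finset.image_union]

theorem smul_mem_sextets {g : Equiv.Perm GolayPt} (hg : g ∈ M24) {S : Finset (Finset GolayPt)}
    (hS : S ∈ sextets) : g • S ∈ sextets := by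
  obtain ⟨h6, h4, hU⟩ := hS
  refine ⟨by rw [Finset.card_smul_finset, h6], fun t ht => ?_, fun t ht u hu hne => ?_⟩
  · obtain ⟨t', ht', rfl⟩ := Finset.mem_smul_finset.1 ht
    rw [Finset.card_smul_finset, h4 t' ht']
  · obtain ⟨t', ht', rfl⟩ := Finset.mem_smul_finset.1 ht
    obtain ⟨u', hu', rfl⟩ := Finset.mem_smul_finset.1 hu
    rw [← smul_union']
    exact smul_mem_octads hg (hU t' ht' u' hu' ((smul_ne_iff g).1 hne))

theorem smul_mem_trios {g : Equiv.Perm GolayPt} (hg : g ∈ M24) {T : Finset (Finset GolayPt)}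
    (hT : T ∈ trios) : g • T ∈ trios := by
  obtain ⟨h3, hO, hD⟩ := hT
  refine ⟨by rw [Finset.card_smul_finset, h3], fun t ht => ?_, fun t ht u hu hne => ?_⟩
  · obtain ⟨t', ht', rfl⟩ := Finset.mem_smul_finset.1 ht
    exact smul_mem_octads hg (hO t' ht')
  · obtain ⟨t', ht', rfl⟩ := Finset.mem_smul_finset.1 ht
    obtain ⟨u', hu', rfl⟩ := Finset.mem_smul_finset.1 hu
    rw [smul_finset_def, smul_finset_def, Finset.disjoint_image g.injective]
    exact hD t' ht' u' hu' ((smul_ne_iff g).1 hne)

/-- The test for a sextet list. -/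
def sextetOK (L : List ℕ) : Bool :=
  listOK L && decide (L.length = 6) && L.all (fun m => pc m == 4) &&
    L.all fun a => L.all fun b => a == b || (isCode (a ||| b) && pc (a ||| b) == 8)

/-- The test for a trio list. -/
def trioOK (L : List ℕ) : Bool :=
  listOK L && decide (L.length = 3) && L.all (fun m => isCode m && pc m == 8) &&
    L.all fun a => L.all fun b => a == b || (a &&& b == 0)

theorem card_obj {L : List ℕ} (h : listOK L = true) : (obj L).card = L.length := by
  simp only [listOK, Bool.and_eq_true, List.all_eq_true, decide_eq_true_eq] at h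
  rw [obj, List.toFinset_card_of_nodup (h.2.map_on fun a ha b hb e => by
    rw [← mask_maskSet (h.1 a ha), e, mask_maskSet (h.1 b hb)]), List.length_map]

theorem mem_obj {L : List ℕ} {t : Finset GolayPt} : t ∈ obj L ↔ ∃ m ∈ L, maskSet m = t := by
  simp [obj]

theorem obj_mem_sextets {L : List ℕ} (h : sextetOK L = true) : obj L ∈ sextets := by
  simp only [sextetOK, Bool.and_eq_true, decide_eq_true_eq, List.all_eq_true, beq_iff_eq,
    Bool.or_eq_true] at h
  obtain ⟨⟨⟨hl, h6⟩, h4⟩, hU⟩ := h
  refine ⟨by rw [card_obj hl, h6], fun t ht => ?_, fun t ht u hu hne => ?_⟩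
  · obtain ⟨m, hm, rfl⟩ := mem_obj.1 ht
    rw [card_maskSet, h4 m hm]
  · obtain ⟨a, ha, rfl⟩ := mem_obj.1 ht
    obtain ⟨b, hb, rfl⟩ := mem_obj.1 hu
    simp only [listOK, Bool.and_eq_true, List.all_eq_true, decide_eq_true_eq] at hl
    rw [mem_octads_iff, card_eq_pc, mask_union, mask_maskSet (hl.1 a ha), mask_maskSet (hl.1 b hb)]
    exact (hU a ha b hb).resolve_left fun e => hne (by rw [e])

theorem obj_mem_trios {L : List ℕ} (h : trioOK L = true) : obj L ∈ trios := by
  simp only [trioOK, Bool.and_eq_true, decide_eq_true_eq, List.all_eq_true, beq_iff_eq,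
    Bool.or_eq_true] at h
  obtain ⟨⟨⟨hl, h3⟩, h8⟩, hD⟩ := h
  have hlt : ∀ m ∈ L, m < 2 ^ 24 := by
    simp only [listOK, Bool.and_eq_true, List.all_eq_true, decide_eq_true_eq] at hl
    exact hl.1
  refine ⟨by rw [card_obj hl, h3], fun t ht => ?_, fun t ht u hu hne => ?_⟩
  · obtain ⟨m, hm, rfl⟩ := mem_obj.1 ht
    rw [mem_octads_iff, mask_maskSet (hlt m hm), card_maskSet]
    exact h8 m hm
  · obtain ⟨a, ha, rfl⟩ := mem_obj.1 ht
    obtain ⟨b, hb, rfl⟩ := mem_obj.1 hu
    rw [disjoint_iff_mask, mask_maskSet (hlt a ha), mask_maskSet (hlt b hb)]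
    exact (hD a ha b hb).resolve_left fun e => hne (by rw [e])

/-- The invariant of a pair of configurations. -/
def pairKey (V S : Finset (Finset GolayPt)) : ℕ := ∑ v ∈ V, ∑ t ∈ S, (v ∩ t).card ^ 2

theorem pairKey_smul (g : Equiv.Perm GolayPt) (V S : Finset (Finset GolayPt)) :
    pairKey (g • V) (g • S) = pairKey V S := by
  have inj : Function.Injective (fun s : Finset GolayPt => g • s) := MulAction.injective g
  simp only [pairKey, show g • V = V.image (g • ·) from rfl, show g • S = S.image (g • ·) from rfl,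
    Finset.sum_image (fun a _ b _ h => inj h), inter_smul_card]

/-- The invariant on lists. -/
def listKey (V L : List ℕ) : ℕ := (V.map fun v => (L.map fun m => pc (v &&& m) ^ 2).sum).sum

theorem pairKey_obj {V L : List ℕ} (hV : listOK V = true) (hL : listOK L = true) :
    pairKey (obj V) (obj L) = listKey V L := by
  have hnd : ∀ {K : List ℕ}, listOK K = true → (K.map maskSet).Nodup := by
    intro K h
    simp only [listOK, Bool.and_eq_true, List.all_eq_true, decide_eq_true_eq] at h
    exact h.2.map_on fun a ha b hb e => by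
      rw [← mask_maskSet (h.1 a ha), e, mask_maskSet (h.1 b hb)]
  rw [pairKey, obj, List.sum_toFinset _ (hnd hV), listKey, List.map_map]
  refine congrArg List.sum (List.map_congr_left fun v hv => ?_)
  simp only [Function.comp_apply]
  rw [obj, List.sum_toFinset _ (hnd hL), List.map_map]
  refine congrArg List.sum (List.map_congr_left fun m hm => ?_)
  simp only [listOK, Bool.and_eq_true, List.all_eq_true, decide_eq_true_eq] at hV hL
  simp only [Function.comp_apply, card_inter_eq_pc, mask_maskSet (hV.1 v hv), mask_maskSet (hL.1 m hm)]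

theorem coe_smul {β : Type*} [MulAction (Equiv.Perm GolayPt) β] (g : M24) (x : β) :
    g • x = (g : Equiv.Perm GolayPt) • x := rfl

theorem pairKey_fix {H : Subgroup M24} {V : Finset (Finset GolayPt)}
    (hH : H ≤ MulAction.stabilizer M24 V) (g : M24) (hg : g ∈ H) (x : Finset (Finset GolayPt)) :
    pairKey V (g • x) = pairKey V x := by
  conv_lhs => rw [← show g • V = V from hH hg]
  exact pairKey_smul _ V x

theorem singleton_smul (g : Equiv.Perm GolayPt) (o : Finset GolayPt) :
    g • ({o} : Finset (Finset GolayPt)) = {g • o} := Finset.smul_finset_singleton o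

theorem stabilizer_singleton (o : Finset GolayPt) :
    MulAction.stabilizer M24 ({o} : Finset (Finset GolayPt)) = MulAction.stabilizer M24 o := by
  ext g
  simp only [MulAction.mem_stabilizer_iff, coe_smul, singleton_smul, Finset.singleton_inj]

theorem obj_singleton (m : ℕ) : obj [m] = {maskSet m} := rfl

/-- The standard sextet. -/
def sextet0 : List ℕ := [15, 5264, 622848, 3416064, 4196928, 8536096]

/-- The standard trio. -/
def trio0 : List ℕ := [5279, 1009728, 15762208]

theorem sextet0_mem : obj sextet0 ∈ sextets := obj_mem_sextets (by decide +kernel)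

theorem trio0_mem : obj trio0 ∈ trios := obj_mem_trios (by decide +kernel)

theorem exists_smul_sextet {S : Finset (Finset GolayPt)} (hS : S ∈ sextets) :
    ∃ a : M24, a • S = obj sextet0 := by
  obtain ⟨t, ht⟩ := Finset.card_pos.1 (by rw [hS.1]; omega : 0 < S.card)
  have h15 : maskSet 15 ∈ obj sextet0 := mem_obj.2 ⟨15, List.mem_cons_self, rfl⟩
  obtain ⟨g, hg, e⟩ := Cfsg.Agent.M24Module.Basic.exists_smul_eq (hS.2.1 t ht)
    (show (maskSet 15).card = 4 by decide +kernel) (by omega)
  refine ⟨⟨g, hg⟩, ?_⟩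
  have hgS := smul_mem_sextets hg hS
  have hmem : maskSet 15 ∈ g • S := e ▸ Finset.smul_mem_smul_finset ht
  exact (eq_sextetOf hgS hmem).trans (eq_sextetOf sextet0_mem h15).symm

/-- Octads as one-element configurations. -/
def octConf : Set (Finset (Finset GolayPt)) := (fun o => {o}) '' octads

theorem octConf_ncard : octConf.ncard = 759 := by
  rw [octConf, Set.ncard_image_of_injective _ Finset.singleton_injective, octads_ncard]

theorem smul_mem_octConf (g : M24) {x : Finset (Finset GolayPt)} (hx : x ∈ octConf) :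
    g • x ∈ octConf := by
  obtain ⟨o, ho, rfl⟩ := hx
  exact ⟨g • o, smul_mem_octads g.2 ho, (singleton_smul _ o).symm⟩

theorem orbit_singleton (H : Subgroup M24) (o : Finset GolayPt) :
    MulAction.orbit H ({o} : Finset (Finset GolayPt)) = (fun u => {u}) '' MulAction.orbit H o := by
  ext x
  constructor
  · rintro ⟨g, rfl⟩; exact ⟨g • o, ⟨g, rfl⟩, (singleton_smul _ o).symm⟩
  · rintro ⟨_, ⟨g, rfl⟩, rfl⟩; exact ⟨g, singleton_smul _ o⟩

theorem ncard_orbit_singleton (H : Subgroup M24) (o : Finset GolayPt) :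
    (MulAction.orbit H ({o} : Finset (Finset GolayPt))).ncard = (MulAction.orbit H o).ncard := by
  rw [orbit_singleton, Set.ncard_image_of_injective _ Finset.singleton_injective]

/-- All the standard orbit data for one stabiliser. -/
theorem orbits_pair {V : List ℕ} (hV : listOK V = true) {X : List ℕ} (hX : X.all tabOK = true)
    (hfix : (X.all fun x => V.all (fun m => (V.contains (imgTab x m)))) = true)
    {L : List (List ℕ × List (ℕ × ℕ))} {sizes : List ℕ}
    (h : treesOK actList listOK listCode X L sizes = true)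
    {Ω : Set (Finset (Finset GolayPt))} (hinvΩ : ∀ g : M24, ∀ x ∈ Ω, g • x ∈ Ω)
    (hroots : ∀ rc ∈ L, obj rc.1 ∈ Ω) (hlist : (L.all fun rc => listOK rc.1) = true)
    (hN : Ω.ncard = sizes.sum) (hkeys : (L.map fun rc => listKey V rc.1).Nodup) :
    (∀ i (hi : i < L.length),
      MulAction.orbit (MulAction.stabilizer M24 (obj V)) (obj L[i].1) =
        {x | x ∈ Ω ∧ pairKey (obj V) x = listKey V L[i].1} ∧
      (MulAction.orbit (MulAction.stabilizer M24 (obj V)) (obj L[i].1)).ncard = sizes.getD i 0) ∧
    ∀ x ∈ Ω, ∃ i, ∃ hi : i < L.length,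
      x ∈ MulAction.orbit (MulAction.stabilizer M24 (obj V)) (obj L[i].1) := by
  simp only [List.all_eq_true] at hlist
  have h' := orbits_of_cert (act := actList) obj (fun x hx s => smul_obj hx s) objCode listOK listCode
    (fun _ hs => objCode_obj hs) (MulAction.stabilizer M24 (obj V)) hX (le_stabilizer_obj hX hfix) L
    sizes h Ω (fun g _ x hx => hinvΩ g x hx) hroots hN (pairKey (obj V))
    (fun g hg x _ => pairKey_fix le_rfl g hg x) (by
      rw [List.map_congr_left fun rc hrc => pairKey_obj hV (hlist rc hrc)]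
      exact hkeys)
  refine ⟨fun i hi => ⟨?_, (h'.1 i hi).2⟩, h'.2⟩
  rw [(h'.1 i hi).1, pairKey_obj hV (hlist _ (List.getElem_mem hi))]

theorem octTrio_orbits :
    treesOK actList listOK listCode OrbitCerts.octTrioTabs OrbitCerts.octTrioCert [15, 420, 3360] = true := by
  decide +kernel

/-- Trios are transitive. -/
theorem exists_smul_trio {T : Finset (Finset GolayPt)} (hT : T ∈ trios) :
    ∃ a : M24, a • T = obj trio0 := by
  have h := orbits_pair (V := [5279]) (by decide +kernel) (X := OrbitCerts.octTrioTabs)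
    (by decide +kernel) (by decide +kernel) octTrio_orbits (Ω := trios)
    (fun g x hx => smul_mem_trios g.2 hx)
    (fun rc hrc => obj_mem_trios (by revert rc; decide +kernel)) (by decide +kernel)
    trios_ncard (by decide +kernel)
  have h0 : ∀ i : Fin OrbitCerts.octTrioCert.length,
      (OrbitCerts.octTrioCert[i.1]).1.contains 5279 = true →
        (OrbitCerts.octTrioCert[i.1]).1 = trio0 := by decide +kernel
  have hl : ∀ i : Fin OrbitCerts.octTrioCert.length,
      listOK (OrbitCerts.octTrioCert[i.1]).1 = true := by decide +kernel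
  have key : ∀ U ∈ trios, o0 ∈ U → U ∈ MulAction.orbit (MulAction.stabilizer M24 (obj [5279]))
      (obj trio0) := by
    intro U hU ho
    obtain ⟨i, hi, hUi⟩ := h.2 U hU
    have hin : o0 ∈ obj (OrbitCerts.octTrioCert[i]).1 := by
      obtain ⟨g, hg⟩ := hUi
      have hg' : (g : M24) • o0 = o0 := by
        have h1 : (g : M24) • obj [5279] = ({o0} : Finset (Finset GolayPt)) := g.2
        have h2 : ((g : M24) : Equiv.Perm GolayPt) • ({o0} : Finset (Finset GolayPt)) = {o0} := h1
        rw [singleton_smul, Finset.singleton_inj] at h2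
        exact h2
      rw [← hg] at ho
      exact (Finset.smul_mem_smul_finset_iff (g : M24)).1 (by rw [hg']; exact ho)
    obtain ⟨m, hm, e⟩ := mem_obj.1 hin
    have hm' : m = 5279 := by
      have := hl ⟨i, hi⟩
      simp only [listOK, Bool.and_eq_true, List.all_eq_true, decide_eq_true_eq] at this
      rw [← mask_maskSet (this.1 m hm), e, o0, mask_maskSet (by decide +kernel)]
      rfl
    rw [← h0 ⟨i, hi⟩ (by simpa [hm'] using hm)]
    exact hUi
  obtain ⟨o, ho⟩ := Finset.card_pos.1 (by rw [hT.1]; omega : 0 < T.card)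
  obtain ⟨a, ha, e⟩ := exists_smul_octad (hT.2.1 o ho)
  obtain ⟨g, hg⟩ := key (a • T) (smul_mem_trios ha hT) (by
    rw [show o0 = a • o from e.symm]; exact Finset.smul_mem_smul_finset ho)
  refine ⟨(g : M24)⁻¹ * ⟨a, ha⟩, ?_⟩
  rw [mul_smul, coe_smul (⟨a, ha⟩ : M24), inv_smul_eq_iff]
  exact hg.symm

end Cfsg.Agent.M24Module.Config
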