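import Cfsg.Agent.Lib.M24Module.Classes
import Cfsg.Agent.Lib.M24Module.Config

/-!
Centralisers in `M24`: lower bounds by transversal chains, upper bounds by conjugation orbits
inside the stabiliser of a configuration.
-/

set_option autoImplicit false
set_option maxRecDepth 10000

namespace Cfsg.Agent.M24Module.CentBase

open Cfsg Cfsg.Agent.Golay.Basic Cfsg.Agent.Golay.Perm Cfsg.Agent.Golay.M24 Cfsg.Agent.Golay.Cert
  Cfsg.Agent.Golay.Orbit Cfsg.Agent.M24Module.Classes Cfsg.Agent.M24Module.ObjOrbit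
  Cfsg.Agent.M24Module.Config
open scoped Pointwise

/-- The table of a permutation. -/
def permTab (g : Equiv.Perm GolayPt) : ℕ := packTab (fun i => ix (g (pt i))) 24

theorem isTab_permTab (g : Equiv.Perm GolayPt) : IsTab (permTab g) g := by
  intro p
  rw [permTab, tabAt_packTab 24 _ (fun i _ => (ix_lt _).trans (by norm_num)) _ (ix_lt p), pt_ix]

theorem packTab_congr : ∀ (n : ℕ) (f f' : ℕ → ℕ), (∀ i < n, f i = f' i) → packTab f n = packTab f' n
  | 0, _, _, _ => rfl
  | n + 1, f, f', h => by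
    simp only [packTab]
    rw [h 0 (Nat.succ_pos n), packTab_congr n (fun i => f (i + 1)) (fun i => f' (i + 1))
      (fun i hi => h (i + 1) (by omega))]

theorem isTab_eq {c : ℕ} {g : Equiv.Perm GolayPt} (h : IsTab c g) :
    packTab (fun i => tabAt c i) 24 = permTab g :=
  packTab_congr 24 _ _ fun i hi => by rw [h (pt i), ix_pt hi]

theorem compTab_eq {s t : ℕ} {g h : Equiv.Perm GolayPt} (hg : IsTab s g) (hh : IsTab t h) :
    compTab s t = permTab (g * h) := by
  refine packTab_congr 24 _ _ fun i hi => ?_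
  rw [Equiv.Perm.mul_apply, hg, hh, ix_pt hi]

/-- The inverse table. -/
def invTab (c : ℕ) : ℕ :=
  packTab (fun i => ((List.range 24).filter fun j => tabAt c j == i).headD 0) 24

theorem isTab_invTab {c : ℕ} {g : Equiv.Perm GolayPt} (h : IsTab c g) : IsTab (invTab c) g⁻¹ := by
  have key : ∀ p, ((List.range 24).filter fun j => tabAt c j == ix p).headD 0 = ix (g⁻¹ p) := by
    intro p
    have hmem : ix (g⁻¹ p) ∈ (List.range 24).filter fun j => tabAt c j == ix p := by
      simp only [List.mem_filter, List.mem_range, beq_iff_eq]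
      refine ⟨ix_lt _, ?_⟩
      rw [← h, ← Equiv.Perm.mul_apply, mul_inv_cancel, Equiv.Perm.one_apply]
    cases hL : (List.range 24).filter fun j => tabAt c j == ix p with
    | nil => rw [hL] at hmem; simp at hmem
    | cons j L =>
      have hj : j ∈ (List.range 24).filter fun j => tabAt c j == ix p := hL ▸ List.mem_cons_self
      simp only [List.mem_filter, List.mem_range, beq_iff_eq] at hj
      have hgj : g (pt j) = p := ix_injective (by rw [h, ix_pt hj.1, hj.2])
      rw [List.headD_cons, show g⁻¹ p = pt j by rw [Equiv.Perm.inv_eq_iff_eq, hgj], ix_pt hj.1]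
  intro p
  rw [invTab, tabAt_packTab 24 _ (fun i hi => ?_) _ (ix_lt p), key p]
  have e : i = ix (pt i) := (ix_pt hi).symm
  rw [e, key]
  exact (ix_lt _).trans (by norm_num)

/-- An element under conjugation. -/
structure Conj where
  /-- The element. -/
  val : Equiv.Perm GolayPt

theorem Conj.val_injective : Function.Injective Conj.val := fun a b h => by
  cases a; cases b; simp_all

instance : MulAction (Equiv.Perm GolayPt) Conj where
  smul g x := ⟨g * x.val * g⁻¹⟩
  one_smul x := Conj.val_injective (by show 1 * x.val * 1⁻¹ = x.val; group)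
  mul_smul g h x := Conj.val_injective (by
    show g * h * x.val * (g * h)⁻¹ = g * (h * x.val * h⁻¹) * g⁻¹; group)

instance : Finite Conj := Finite.of_injective _ Conj.val_injective

/-- Conjugation on tables. -/
def conjTab (x c : ℕ) : ℕ := compTab x (compTab c (invTab x))

theorem conjTab_permTab (x : ℕ) (g : Equiv.Perm GolayPt) (h : IsTab x g) (y : Conj) :
    conjTab x (permTab y.val) = permTab (g • y).val := by
  rw [conjTab, compTab_eq h (isTab_comp (isTab_permTab y.val) (isTab_invTab h))]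
  show permTab (g * (y.val * g⁻¹)) = permTab (g * y.val * g⁻¹)
  rw [mul_assoc]

/-- The check of a conjugation tree. -/
def conjTreeOK (X : List ℕ) (cert : List (ℕ × ℕ)) (r n : ℕ) : Bool :=
  let L := orbitList conjTab X cert r
  Trie.distinct (L.map fun c => c % modulus) && L.length == n

theorem le_card_of_chain {X : List ℕ} (hX : X.all tabOK = true) {L : List (ℕ × ℕ × List (List ℕ))}
    (h : chainOK X [] L = true) {K : Subgroup (Equiv.Perm GolayPt)} (hK : ∀ x ∈ X, tabPerm x ∈ K) :
    chainProd L ≤ Nat.card K := by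
  have h1 := chainProd_le hX (pre := []) (by simp) h
  rw [List.map_nil, fixers_nil] at h1
  exact h1.trans (Subgroup.card_le_of_le (tabGroup_le_of hK))

/-- The orbit of `r` under a group containing the generators has at least the tree's size. -/
theorem le_ncard_conj {X : List ℕ} (hX : X.all tabOK = true) {H : Subgroup M24}
    (hH : ∀ g : M24, (g : Equiv.Perm GolayPt) ∈ tabGroup X → g ∈ H) {cert : List (ℕ × ℕ)}
    {g₀ : Equiv.Perm GolayPt} {r n : ℕ} (hr : r = permTab g₀) (h : conjTreeOK X cert r n = true) :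
    (∀ c ∈ orbitList conjTab X cert r,
      ∃ y ∈ MulAction.orbit H (⟨g₀⟩ : Conj), permTab y.val = c) ∧
    n ≤ (MulAction.orbit H (⟨g₀⟩ : Conj)).ncard := by
  classical
  have hmem : ∀ c ∈ orbitList conjTab X cert r,
      ∃ y ∈ MulAction.orbit H (⟨g₀⟩ : Conj), permTab y.val = c := by
    intro c hc
    rw [hr] at hc
    obtain ⟨g, hg, e⟩ := orbitList_mem hX (enc := fun y : Conj => permTab y.val)
      (fun tab g hg x => conjTab_permTab tab g hg x) (⟨g₀⟩ : Conj) cert c hc
    exact ⟨g • (⟨g₀⟩ : Conj), ⟨⟨⟨g, tabGroup_le_M24 hX hg⟩, hH _ hg⟩, rfl⟩, e⟩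
  refine ⟨hmem, ?_⟩
  simp only [conjTreeOK, Bool.and_eq_true, beq_iff_eq] at h
  obtain ⟨hd, hl⟩ := h
  have hnd : (orbitList conjTab X cert r).Nodup :=
    List.Nodup.of_map _ (Trie.nodup_of_distinct hd)
  rw [← hl, ← List.toFinset_card_of_nodup hnd, ← Set.ncard_coe_finset]
  refine le_trans (Set.ncard_le_ncard (fun c hc => ?_) (Set.toFinite _))
    (Set.ncard_image_le (f := fun y : Conj => permTab y.val) (Set.toFinite _))
  obtain ⟨y, hy, e⟩ := hmem c (List.mem_toFinset.1 hc)
  exact ⟨y, hy, e⟩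

/-- A centraliser inside the stabiliser of a configuration. -/
theorem card_cent_mul {H : Subgroup M24} {K : Subgroup (Equiv.Perm GolayPt)} {g₀ : Equiv.Perm GolayPt}
    (hK : ∀ g : Equiv.Perm GolayPt, g ∈ K ↔ g ∈ M24 ∧ g * g₀ = g₀ * g)
    (hle : ∀ g : M24, (g : Equiv.Perm GolayPt) ∈ K → g ∈ H) :
    (MulAction.orbit H (⟨g₀⟩ : Conj)).ncard * Nat.card K = Nat.card H := by
  rw [← Subgroup.index_mul_card (MulAction.stabilizer H (⟨g₀⟩ : Conj)), MulAction.index_stabilizer]
  congr 1
  have hiff : ∀ g : Equiv.Perm GolayPt, g • (⟨g₀⟩ : Conj) = ⟨g₀⟩ ↔ g * g₀ = g₀ * g := fun g => by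
    show (⟨g * g₀ * g⁻¹⟩ : Conj) = ⟨g₀⟩ ↔ _
    rw [Conj.mk.injEq, mul_inv_eq_iff_eq_mul]
  exact Nat.card_congr
    { toFun := fun g => ⟨⟨⟨g.1, ((hK _).1 g.2).1⟩, hle _ g.2⟩, (hiff _).2 ((hK _).1 g.2).2⟩
      invFun := fun g => ⟨g.1.1.1, (hK _).2 ⟨g.1.1.2, (hiff _).1 g.2⟩⟩
      left_inv := fun _ => rfl
      right_inv := fun _ => rfl }

theorem card_stabilizer_of_trans {Ω : Set (Finset (Finset GolayPt))} {x : Finset (Finset GolayPt)}
    (hx : x ∈ Ω) (hinv : ∀ g : M24, ∀ y ∈ Ω, g • y ∈ Ω) (ht : ∀ y ∈ Ω, ∃ a : M24, a • y = x) {n : ℕ}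
    (hn : Ω.ncard * n = 244823040) : Nat.card (MulAction.stabilizer M24 x) = n := by
  have horb : MulAction.orbit M24 x = Ω := by
    ext y
    constructor
    · rintro ⟨g, rfl⟩; exact hinv g x hx
    · intro hy
      obtain ⟨a, e⟩ := ht y hy
      exact ⟨a⁻¹, by rw [← e]; exact inv_smul_smul a y⟩
  have h := Subgroup.index_mul_card (MulAction.stabilizer M24 x)
  rw [MulAction.index_stabilizer, horb, card_M24, ← hn] at h
  exact Nat.eq_of_mul_eq_mul_left ((Set.ncard_pos (Set.toFinite _)).2 ⟨x, hx⟩) h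

theorem card_stabilizer_sextet0 : Nat.card (MulAction.stabilizer M24 (obj sextet0)) = 138240 :=
  card_stabilizer_of_trans sextet0_mem (fun g _ h => smul_mem_sextets g.2 h)
    (fun _ h => exists_smul_sextet h) (by rw [Cfsg.Agent.Golay.Sextet.sextets_ncard])

theorem card_stabilizer_trio0 : Nat.card (MulAction.stabilizer M24 (obj trio0)) = 64512 :=
  card_stabilizer_of_trans trio0_mem (fun g _ h => smul_mem_trios g.2 h)
    (fun _ h => exists_smul_trio h) (by rw [Cfsg.Agent.Golay.Sextet.trios_ncard])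

theorem card_stabilizer_of_conj {v w : Finset (Finset GolayPt)} {a : M24} (e : a • v = w) :
    Nat.card (MulAction.stabilizer M24 v) = Nat.card (MulAction.stabilizer M24 w) := by
  subst e
  exact Nat.card_congr (MulAction.stabilizerEquivStabilizer (g := a) rfl).toEquiv

theorem card_stabilizer_sextet {S : Finset (Finset GolayPt)} (hS : S ∈ sextets) :
    Nat.card (MulAction.stabilizer M24 S) = 138240 := by
  obtain ⟨a, e⟩ := exists_smul_sextet hS
  rw [card_stabilizer_of_conj e, card_stabilizer_sextet0]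

theorem card_stabilizer_trio {T : Finset (Finset GolayPt)} (hT : T ∈ trios) :
    Nat.card (MulAction.stabilizer M24 T) = 64512 := by
  obtain ⟨a, e⟩ := exists_smul_trio hT
  rw [card_stabilizer_of_conj e, card_stabilizer_trio0]

end Cfsg.Agent.M24Module.CentBase
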