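import Cfsg.Agent.Lib.M24Module.Config
import Cfsg.Agent.Lib.M24Module.FixCount

/-!
Lists of all trios and all sextets; counting the configurations fixed by a table.
-/

set_option autoImplicit false
set_option maxRecDepth 10000

namespace Cfsg.Agent.M24Module.Enum

open Cfsg Cfsg.Agent.Golay.Basic Cfsg.Agent.Golay.Design Cfsg.Agent.Golay.M24 Cfsg.Agent.Golay.Cert
  Cfsg.Agent.Golay.Orbit Cfsg.Agent.M24Module.ObjOrbit Cfsg.Agent.M24Module.Config
  Cfsg.Agent.M24Module.OrbitCerts
open scoped Pointwise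

/-- The nodes of several trees. -/
def nodes (X : List ℕ) (L : List (List ℕ × List (ℕ × ℕ))) : List (List ℕ) :=
  (L.map fun rc => orbitList actList X rc.2 rc.1).flatten

/-- All trios. -/
def trioList : List (List ℕ) := nodes octTrioTabs octTrioCert

/-- All sextets. -/
def sextetList : List (List ℕ) := nodes octSextTabs octSextCert

theorem sextet_trees :
    treesOK actList listOK listCode octSextTabs octSextCert [35, 840, 896] = true := by decide +kernel

theorem list_spec {X : List ℕ} (hX : X.all tabOK = true) {L : List (List ℕ × List (ℕ × ℕ))}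
    {sizes : List ℕ} (h : treesOK actList listOK listCode X L sizes = true)
    {Ω : Set (Finset (Finset GolayPt))} (hinv : ∀ g : M24, ∀ x ∈ Ω, g • x ∈ Ω)
    (hroots : ∀ rc ∈ L, obj rc.1 ∈ Ω) (hN : Ω.ncard = sizes.sum) :
    (∀ l ∈ nodes X L, listOK l = true) ∧ ((nodes X L).map listCode).Nodup ∧
      ∀ x, x ∈ Ω ↔ ∃ l ∈ nodes X L, obj l = x := by
  classical
  simp only [treesOK, Bool.and_eq_true, List.all_eq_true, beq_iff_eq] at h
  obtain ⟨⟨hok, hdist⟩, hlen⟩ := h
  have hok' : ∀ l ∈ nodes X L, listOK l = true := fun l hl => by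
    obtain ⟨M, hM, hlM⟩ := List.mem_flatten.1 hl
    exact hok M hM l hlM
  have hnd : ((nodes X L).map listCode).Nodup := Trie.nodup_of_distinct hdist
  have hsub : ∀ l ∈ nodes X L, obj l ∈ Ω := fun l hl => by
    obtain ⟨M, hM, hlM⟩ := List.mem_flatten.1 hl
    obtain ⟨rc, hrc, rfl⟩ := List.mem_map.1 hM
    obtain ⟨g, hg, e⟩ := orbitList_rel hX obj (fun x hx s => smul_obj hx s) rc.1 rc.2 l hlM
    rw [← e]
    exact hinv ⟨g, tabGroup_le_M24 hX hg⟩ _ (hroots rc hrc)
  have hndo : ((nodes X L).map obj).Nodup := by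
    refine List.Nodup.of_map objCode ?_
    rw [List.map_map,
      List.map_congr_left (f := objCode ∘ obj) (g := listCode) fun s hs => objCode_obj (hok' s hs)]
    exact hnd
  refine ⟨hok', hnd, fun x => ⟨fun hx => ?_, fun ⟨l, hl, e⟩ => e ▸ hsub l hl⟩⟩
  have heq : (((nodes X L).map obj).toFinset : Set (Finset (Finset GolayPt))) = Ω := by
    refine Set.eq_of_subset_of_ncard_le (fun U hU => ?_) ?_ (Set.toFinite _)
    · obtain ⟨l, hl, rfl⟩ := List.mem_map.1 (List.mem_toFinset.1 hU)
      exact hsub l hl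
    · rw [hN, Set.ncard_coe_finset, List.toFinset_card_of_nodup hndo, List.length_map, nodes,
        List.length_flatten, ← hlen]
  rw [← heq] at hx
  exact List.mem_map.1 (List.mem_toFinset.1 hx)

theorem trioList_spec : (∀ l ∈ trioList, listOK l = true) ∧ (trioList.map listCode).Nodup ∧
    ∀ x, x ∈ trios ↔ ∃ l ∈ trioList, obj l = x :=
  list_spec (by decide +kernel) octTrio_orbits (fun g x hx => smul_mem_trios g.2 hx)
    (fun rc hrc => obj_mem_trios (by revert rc; decide +kernel)) Cfsg.Agent.Golay.Sextet.trios_ncard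

theorem sextetList_spec : (∀ l ∈ sextetList, listOK l = true) ∧ (sextetList.map listCode).Nodup ∧
    ∀ x, x ∈ sextets ↔ ∃ l ∈ sextetList, obj l = x :=
  list_spec (by decide +kernel) sextet_trees (fun g x hx => smul_mem_sextets g.2 hx)
    (fun rc hrc => obj_mem_sextets (by revert rc; decide +kernel))
    Cfsg.Agent.Golay.Sextet.sextets_ncard

/-- The configurations of a list with the same code after moving. -/
def fixedCount (x : ℕ) (L : List (List ℕ)) : ℕ :=
  (L.filter fun l => listCode (actList x l) == listCode l).length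

theorem actList_ok {x : ℕ} (hx : tabOK x = true) {l : List ℕ} (hl : listOK l = true) :
    listOK (actList x l) = true := by
  simp only [listOK, Bool.and_eq_true, List.all_eq_true, decide_eq_true_eq] at hl ⊢
  refine ⟨fun m hm => ?_, hl.2.map_on fun a ha b hb e => ?_⟩
  · obtain ⟨a, ha, rfl⟩ := List.mem_map.1 hm
    rw [← mask_maskSet (hl.1 a ha), imgTab_mask (isTab_tabPerm hx)]
    exact mask_lt _
  · rw [← mask_maskSet (hl.1 a ha), ← mask_maskSet (hl.1 b hb), imgTab_mask (isTab_tabPerm hx),
      imgTab_mask (isTab_tabPerm hx)] at e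
    rw [← mask_maskSet (hl.1 a ha), MulAction.injective _ (mask_injective e), mask_maskSet (hl.1 b hb)]

/-- Fixed configurations of a conjugate of a table. -/
theorem ncard_fixed {Ω : Set (Finset (Finset GolayPt))} {L : List (List ℕ)}
    (hspec : (∀ l ∈ L, listOK l = true) ∧ (L.map listCode).Nodup ∧ ∀ x, x ∈ Ω ↔ ∃ l ∈ L, obj l = x)
    (hinv : ∀ g : M24, ∀ x ∈ Ω, g • x ∈ Ω)
    {x : ℕ} (hx : tabOK x = true) {k g : Equiv.Perm GolayPt} (hk : k ∈ M24)
    (e : k * g * k⁻¹ = tabPerm x) {n : ℕ} (hn : fixedCount x L = n) :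
    {S | S ∈ Ω ∧ g • S = S}.ncard = n := by
  classical
  obtain ⟨hok, hnd, hmem⟩ := hspec
  have himg : {S | S ∈ Ω ∧ tabPerm x • S = S} =
      (((L.filter fun l => listCode (actList x l) == listCode l).map obj).toFinset :
        Set (Finset (Finset GolayPt))) := by
    ext S
    simp only [Set.mem_setOf_eq, Finset.mem_coe, List.mem_toFinset, List.mem_map, List.mem_filter,
      beq_iff_eq]
    constructor
    · rintro ⟨hS, hfix⟩
      obtain ⟨l, hl, rfl⟩ := (hmem S).1 hS
      refine ⟨l, ⟨hl, ?_⟩, rfl⟩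
      have e1 : obj (actList x l) = obj l := (smul_obj hx l).symm.trans hfix
      rw [← objCode_obj (actList_ok hx (hok l hl)), ← objCode_obj (hok l hl), e1]
    · rintro ⟨l, ⟨hl, hc⟩, rfl⟩
      have hlΩ : obj l ∈ Ω := (hmem _).2 ⟨l, hl, rfl⟩
      refine ⟨hlΩ, ?_⟩
      have hg : tabPerm x • obj l ∈ Ω := hinv ⟨tabPerm x, tabPerm_mem hx⟩ _ hlΩ
      obtain ⟨l', hl', e'⟩ := (hmem _).1 hg
      rw [smul_obj hx l] at e'
      have h1 := congrArg objCode e'
      rw [objCode_obj (hok l' hl'), show obj (l.map (imgTab x)) = obj (actList x l) from rfl,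
        objCode_obj (actList_ok hx (hok l hl)), hc] at h1
      rw [smul_obj hx, ← e', List.inj_on_of_nodup_map hnd hl' hl h1]
  have htr : {S | S ∈ Ω ∧ g • S = S}.ncard = {S | S ∈ Ω ∧ tabPerm x • S = S}.ncard := by
    rw [← Set.ncard_image_of_injective {S | S ∈ Ω ∧ g • S = S} (MulAction.injective k)]
    congr 1
    ext S
    constructor
    · rintro ⟨T, ⟨hT, hfix⟩, rfl⟩
      exact ⟨hinv ⟨k, hk⟩ T hT, by rw [← e, mul_smul, mul_smul, inv_smul_smul, hfix]⟩
    · rintro ⟨hS, hfix⟩
      refine ⟨k⁻¹ • S, ⟨hinv ⟨k⁻¹, M24.inv_mem hk⟩ S hS, ?_⟩, smul_inv_smul k S⟩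
      rw [← e, mul_smul, mul_smul] at hfix
      exact (MulAction.injective k) (show k • g • k⁻¹ • S = k • k⁻¹ • S by rw [hfix, smul_inv_smul])
  rw [htr, himg, Set.ncard_coe_finset, List.toFinset_card_of_nodup, List.length_map]
  · exact hn
  · refine List.Nodup.of_map objCode ?_
    rw [List.map_map, List.map_congr_left (f := objCode ∘ obj) (g := listCode) fun s hs =>
      objCode_obj (hok s (List.mem_filter.1 hs).1)]
    exact hnd.sublist (List.filter_sublist.map listCode)

/-- Fixed code words of one weight. -/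
theorem ncard_fixed_words (w : ℕ) {x : ℕ} (hx : tabOK x = true) {k g : Equiv.Perm GolayPt}
    (hk : k ∈ M24) (e : k * g * k⁻¹ = tabPerm x) {n : ℕ}
    (hn : (codeList.filter fun m => pc m == w && imgTab x m == m).length = n) :
    {s : Finset GolayPt | s ∈ wordsOfWeight (golayCode : Set (GolayPt → ZMod 2)) w ∧ g • s = s}.ncard = n := by
  rw [ncard_transport k
    (P := fun s => s ∈ wordsOfWeight (golayCode : Set (GolayPt → ZMod 2)) w ∧ g • s = s)
    (Q := fun t => t ∈ wordsOfWeight (golayCode : Set (GolayPt → ZMod 2)) w ∧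
      (imgTab x (mask t) == mask t) = true) (fun s => by
      have hw : k • s ∈ wordsOfWeight (golayCode : Set (GolayPt → ZMod 2)) w ↔
          s ∈ wordsOfWeight (golayCode : Set (GolayPt → ZMod 2)) w :=
        ⟨fun h => ⟨by simpa using smul_mem_supports (M24.inv_mem hk) h.1,
          (Finset.card_smul_finset k s).symm.trans h.2⟩,
         fun h => ⟨smul_mem_supports hk h.1, (Finset.card_smul_finset k s).trans h.2⟩⟩
      rw [hw, beq_iff_eq, imgTab_mask (isTab_tabPerm hx), ← e, mul_smul, mul_smul, inv_smul_smul]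
      exact and_congr_right fun _ =>
        ⟨fun h => by rw [h], fun h => MulAction.injective k (mask_injective h)⟩)]
  exact count_weight w _ (fun m => imgTab x m == m) (fun _ => Iff.rfl) hn

end Cfsg.Agent.M24Module.Enum
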