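import Cfsg.Agent.Lib.M24Module.ClassData
import Cfsg.Agent.Lib.M24Module.Basic

/-!
Every element of order two, three or seven of `M24` is conjugate to one of the representatives.
-/

set_option autoImplicit false
set_option maxRecDepth 10000

namespace Cfsg.Agent.M24Module.Classes

open Cfsg Cfsg.Agent.Golay.Basic Cfsg.Agent.Golay.Perm Cfsg.Agent.Golay.M24 Cfsg.Agent.Golay.M24Data
  Cfsg.Agent.Golay.Cert Cfsg.Agent.M24Module.ClassData

/-- Pack a function on indices into a table. -/
def packTab (f : ℕ → ℕ) : ℕ → ℕ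
  | 0 => 0
  | n + 1 => packTab (fun i => f (i + 1)) n * 32 + f 0

theorem tabAt_packTab : ∀ (n : ℕ) (f : ℕ → ℕ), (∀ i < n, f i < 32) → ∀ i < n,
    tabAt (packTab f n) i = f i
  | 0, _, _, i, hi => absurd hi (Nat.not_lt_zero i)
  | n + 1, f, hf, i, hi => by
    have h0 := hf 0 (Nat.succ_pos n)
    cases i with
    | zero =>
      rw [tabAt, packTab, Nat.mul_zero, Nat.shiftRight_zero, Nat.mul_add_mod_of_lt h0]
    | succ j =>
      have ih := tabAt_packTab n (fun k => f (k + 1)) (fun k hk => hf (k + 1) (by omega)) j (by omega)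
      rw [← ih, tabAt, tabAt, packTab, show 5 * (j + 1) = 5 + 5 * j by omega, Nat.shiftRight_add]
      congr 2
      rw [Nat.shiftRight_eq_div_pow, show (2 : ℕ) ^ 5 = 32 by norm_num]
      omega

/-- The table of a product: `t` first. -/
def compTab (s t : ℕ) : ℕ := packTab (fun i => tabAt s (tabAt t i)) 24

/-- The table of a word. -/
def wordTab (w : List ℕ) : ℕ := packTab (runWord w) 24

theorem IsTab.at_lt {tab : ℕ} {g : Equiv.Perm GolayPt} (h : IsTab tab g) {i : ℕ} (hi : i < 24) :
    tabAt tab i < 24 := by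
  have := h (pt i)
  rw [ix_pt hi] at this
  rw [← this]; exact ix_lt _

theorem isTab_comp {s t : ℕ} {g h : Equiv.Perm GolayPt} (hg : IsTab s g) (hh : IsTab t h) :
    IsTab (compTab s t) (g * h) := by
  intro p
  rw [compTab, tabAt_packTab 24 _ (fun i hi => by
    have := IsTab.at_lt hg (IsTab.at_lt hh hi); omega) _ (ix_lt p), Equiv.Perm.mul_apply, hg, hh]

theorem isTab_word (w : List ℕ) : IsTab (wordTab w) (evalWord w) := by
  intro p
  rw [wordTab, tabAt_packTab 24 _ (fun i hi => ?_) _ (ix_lt p), ix_evalWord]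
  have := ix_evalWord w (pt i)
  rw [ix_pt hi] at this
  rw [← this]
  exact (ix_lt _).trans (by norm_num)

theorem isTab_of_agree {s : ℕ} {g : Equiv.Perm GolayPt} (h : IsTab s g) {t : ℕ}
    (e : ∀ i < 24, tabAt s i = tabAt t i) : IsTab t g := fun p => by rw [h p, e _ (ix_lt p)]

/-- The powers of a table at one index. -/
def powAt (c : ℕ) : ℕ → ℕ → ℕ
  | 0, i => i
  | n + 1, i => tabAt c (powAt c n i)

theorem ix_pow {c : ℕ} {g : Equiv.Perm GolayPt} (h : IsTab c g) : ∀ (n : ℕ) (p : GolayPt),
    ix ((g ^ n) p) = powAt c n (ix p)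
  | 0, _ => rfl
  | n + 1, p => by rw [pow_succ', Equiv.Perm.mul_apply, h, ix_pow h n p]; rfl

/-- The elements with the images of the first four base points prescribed by `start`. -/
def candTabs (start : ℕ) : List ℕ :=
  (trans4.map fun w => compTab start (wordTab w)).flatMap fun a =>
    (trans5.map fun w => compTab a (wordTab w)).flatMap fun b =>
      trans6.map fun w => compTab b (wordTab w)

/-- Every candidate of order dividing `p` is trivial or conjugated to a representative. -/
def clsOK (start p : ℕ) (reps conjs : List ℕ) : Bool :=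
  conjs.all tabOK && reps.all tabOK && tabOK start &&
  (candTabs start).all fun c =>
    ((List.range 24).any fun i => !(powAt c p i == i)) ||
    ((List.range 24).all fun i => tabAt c i == i) ||
    conjs.any fun k => reps.any fun r => (List.range 24).all fun i =>
      tabAt k (tabAt c i) == tabAt r (tabAt k i)

theorem exists_word_step {k : ℕ} (hk : k < 7) {g : Equiv.Perm GolayPt}
    (hg : g ∈ fixers M24 (basePre k)) :
    ∃ w ∈ transWords k, (evalWord w)⁻¹ * g ∈ fixers M24 (basePre (k + 1)) := by
  have h := levelOK_all k hk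
  simp only [levelOK, Bool.and_eq_true, List.all_eq_true, List.mem_range, Bool.or_eq_true,
    Bool.not_eq_eq_eq_not, Bool.not_true, decide_eq_false_iff_not, List.any_eq_true, beq_iff_eq] at h
  obtain ⟨h1, h2⟩ := h
  rcases h2 (ix (g (base k))) (ix_lt _) with hn | ⟨w, hw, hwt⟩
  · rw [pt_ix] at hn; exact absurd (orbit_bound hk hg) hn
  refine ⟨w, hw, M24.mul_mem (M24.inv_mem (evalWord_mem w)) hg.1, fun x hx => ?_⟩
  have hwfix : ∀ x ∈ basePre k, evalWord w x = x := by
    intro x hx
    obtain ⟨j, hj, rfl⟩ := mem_basePre hx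
    have hlen : j < baseIx.length := by simp [baseIx]; omega
    have hmem : baseIx.getD j 0 ∈ baseIx.take k := by
      rw [List.getD_eq_getElem _ _ hlen]
      exact List.mem_take_iff_getElem.2 ⟨j, by simp; omega, rfl⟩
    rw [base, evalWord_pt w (baseIx_lt j), h1 w hw _ hmem]
  have hwk : evalWord w (base k) = g (base k) := by
    rw [base, evalWord_pt w (baseIx_lt k), hwt, pt_ix]; rfl
  rw [Equiv.Perm.mul_apply, Equiv.Perm.inv_eq_iff_eq]
  rcases List.mem_cons.1 hx with rfl | hx
  · exact hwk.symm
  · rw [hg.2 x hx, hwfix x hx]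

/-- An element agreeing with `start` on the first four base points is a candidate. -/
theorem exists_cand {start : ℕ} (hs : tabOK start = true) {g : Equiv.Perm GolayPt} (hg : g ∈ M24)
    (h : ∀ i < 4, g (base i) = tabPerm start (base i)) :
    ∃ c ∈ candTabs start, IsTab c g := by
  have hst := isTab_tabPerm hs
  have h4 : (tabPerm start)⁻¹ * g ∈ fixers M24 (basePre 4) := by
    refine ⟨M24.mul_mem (M24.inv_mem (tabPerm_mem hs)) hg, fun x hx => ?_⟩
    obtain ⟨j, hj, rfl⟩ := mem_basePre hx
    rw [Equiv.Perm.mul_apply, Equiv.Perm.inv_eq_iff_eq, h j hj]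
  obtain ⟨w4, hw4, h5⟩ := exists_word_step (by norm_num) h4
  obtain ⟨w5, hw5, h6⟩ := exists_word_step (by norm_num) h5
  obtain ⟨w6, hw6, h7⟩ := exists_word_step (by norm_num) h6
  rw [show (6 : ℕ) + 1 = 7 from rfl, fixers_seven, Subgroup.mem_bot] at h7
  have hgeq : g = tabPerm start * evalWord w4 * evalWord w5 * evalWord w6 := by
    rw [← one_mul g, show (1 : Equiv.Perm GolayPt) = tabPerm start * evalWord w4 * evalWord w5 *
      evalWord w6 * ((evalWord w6)⁻¹ * ((evalWord w5)⁻¹ * ((evalWord w4)⁻¹ * (tabPerm start)⁻¹))) by group]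
    simp only [mul_assoc] at h7 ⊢
    rw [h7, mul_one]
  refine ⟨compTab (compTab (compTab start (wordTab w4)) (wordTab w5)) (wordTab w6), ?_, ?_⟩
  · simp only [candTabs, List.mem_flatMap, List.mem_map]
    exact ⟨_, ⟨w4, hw4, rfl⟩, _, ⟨w5, hw5, rfl⟩, w6, hw6, rfl⟩
  · rw [hgeq]
    exact isTab_comp (isTab_comp (isTab_comp hst (isTab_word w4)) (isTab_word w5)) (isTab_word w6)

/-- Classification from a start and a check. -/
theorem classify {start p : ℕ} {reps conjs : List ℕ} (h : clsOK start p reps conjs = true)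
    {g : Equiv.Perm GolayPt} (hg : g ∈ M24) (hp : g ^ p = 1) (h1 : g ≠ 1)
    (hstart : ∃ a ∈ M24, ∀ i < 4, (a * g * a⁻¹) (base i) = tabPerm start (base i)) :
    ∃ k ∈ M24, ∃ r ∈ reps, k * g * k⁻¹ = tabPerm r := by
  simp only [clsOK, Bool.and_eq_true, List.all_eq_true, Bool.or_eq_true, List.any_eq_true,
    List.mem_range, Bool.not_eq_true', beq_eq_false_iff_ne, beq_iff_eq] at h
  obtain ⟨⟨⟨hk, hr⟩, hs⟩, hall⟩ := h
  obtain ⟨a, ha, hag⟩ := hstart
  obtain ⟨c, hc, hct⟩ := exists_cand hs (M24.mul_mem (M24.mul_mem ha hg) (M24.inv_mem ha)) hag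
  rcases hall c hc with (⟨i, hi, hne⟩ | htriv) | ⟨k, hkm, r, hrm, heq⟩
  · refine absurd ?_ hne
    have := ix_pow hct p (pt i)
    rw [conj_pow, hp, mul_one, mul_inv_cancel, Equiv.Perm.one_apply, ix_pt hi] at this
    exact this.symm
  · refine absurd ?_ h1
    have e : a * g * a⁻¹ = 1 := hct.unique fun q => by
      rw [Equiv.Perm.one_apply, htriv _ (ix_lt q)]
    simpa using e
  · refine ⟨tabPerm k * a, M24.mul_mem (tabPerm_mem (hk k hkm)) ha, r, hrm, ?_⟩
    have e1 : tabPerm k * (a * g * a⁻¹) = tabPerm r * tabPerm k := by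
      generalize a * g * a⁻¹ = b at hct
      refine Equiv.ext fun q => ix_injective ?_
      rw [Equiv.Perm.mul_apply, Equiv.Perm.mul_apply, isTab_tabPerm (hk k hkm), hct,
        isTab_tabPerm (hr r hrm), isTab_tabPerm (hk k hkm), heq _ (ix_lt q)]
    rw [mul_inv_rev]
    calc tabPerm k * a * g * (a⁻¹ * (tabPerm k)⁻¹)
        = tabPerm k * (a * g * a⁻¹) * (tabPerm k)⁻¹ := by group
      _ = tabPerm r := by rw [e1]; group

theorem two_check : clsOK twoStart 2 twoReps twoConj = true := by decide +kernel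
theorem three_check : clsOK threeStart 3 threeReps threeConj = true := by decide +kernel
theorem seven_check : clsOK sevenStart 7 sevenReps sevenConj = true := by decide +kernel

theorem start_images :
    ((List.range 4).map fun i => tabAt twoStart (baseIx.getD i 0)) = [1, 0, 3, 2] ∧
    ((List.range 4).map fun i => tabAt threeStart (baseIx.getD i 0)) = [1, 2, 0, 4] ∧
    ((List.range 4).map fun i => tabAt sevenStart (baseIx.getD i 0)) = [1, 2, 3, 4] := by
  decide +kernel

theorem tabPerm_base {start : ℕ} (hs : tabOK start = true) {m : ℕ} (hm : m < 7) {i : ℕ}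
    (h : tabAt start (baseIx.getD i 0) = baseIx.getD m 0) : tabPerm start (base i) = base m := by
  apply ix_injective
  rw [base, base, isTab_tabPerm hs, ix_pt (baseIx_lt i), ix_pt (baseIx_lt m), h]

/-- An element moving only one orbit of size at most three is trivial. -/
theorem exists_second {g : Equiv.Perm GolayPt} (hg : g ∈ M24) (h1 : g ≠ 1)
    (S : Finset GolayPt) (hS : S.card ≤ 3) : ∃ y, y ∉ S ∧ g y ≠ y := by
  classical
  by_contra hcon
  simp only [not_exists, not_and, not_not] at hcon
  obtain ⟨a, ha, hab⟩ := Cfsg.Agent.M24Module.Basic.exists_smul_eq (s := S)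
    (t := maskSet ([0, 64, 320, 832].getD S.card 0)) (k := S.card) rfl
    (by
      have : ∀ k ≤ 3, (maskSet (([0, 64, 320, 832] : List ℕ).getD k 0)).card = k := by decide +kernel
      exact this _ hS) (by omega)
  have hout : ∀ k ≤ 3, ∀ x ∈ basePre 7, x ∉ maskSet (([0, 64, 320, 832] : List ℕ).getD k 0) := by
    decide +kernel
  have h7 : a * g * a⁻¹ ∈ fixers M24 (basePre 7) := by
    refine ⟨M24.mul_mem (M24.mul_mem ha hg) (M24.inv_mem ha), fun x hx => ?_⟩
    have hxS : a⁻¹ x ∉ S := fun hm => by
      have h := (mem_smul_iff a S (a⁻¹ x)).2 hm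
      rw [hab, ← Equiv.Perm.mul_apply, mul_inv_cancel, Equiv.Perm.one_apply] at h
      exact hout _ hS x hx h
    rw [Equiv.Perm.mul_apply, Equiv.Perm.mul_apply, hcon _ hxS, ← Equiv.Perm.mul_apply,
      mul_inv_cancel, Equiv.Perm.one_apply]
  rw [fixers_seven, Subgroup.mem_bot] at h7
  exact h1 (by simpa using h7)

theorem exists_moved {g : Equiv.Perm GolayPt} (h1 : g ≠ 1) : ∃ x, g x ≠ x := by
  by_contra h
  simp only [not_exists, not_not] at h
  exact h1 (Equiv.ext h)

theorem conj_base {a g : Equiv.Perm GolayPt} {i : ℕ} {z : GolayPt} (h : a z = base i) :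
    (a * g * a⁻¹) (base i) = a (g z) := by
  rw [← h]; simp

theorem classify_two {g : Equiv.Perm GolayPt} (hg : g ∈ M24) (h2 : orderOf g = 2) :
    ∃ k ∈ M24, ∃ r ∈ twoReps, k * g * k⁻¹ = tabPerm r := by
  have hp : g ^ 2 = 1 := by rw [← h2]; exact pow_orderOf_eq_one g
  have h1 : g ≠ 1 := fun e => by simp [e] at h2
  have hgg : ∀ x, g (g x) = x := fun x => by
    rw [← Equiv.Perm.mul_apply, ← sq, hp, Equiv.Perm.one_apply]
  refine classify two_check hg hp h1 ?_
  classical
  obtain ⟨x, hx⟩ := exists_moved h1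
  obtain ⟨y, hy, hyg⟩ := exists_second hg h1 {x, g x} (Finset.card_le_two.trans (by norm_num))
  simp only [Finset.mem_insert, Finset.mem_singleton, not_or] at hy
  have hnd : ([x, g x, y, g y] : List GolayPt).Nodup := by
    simp only [List.nodup_cons, List.mem_cons, List.not_mem_nil, or_false, not_or,
      List.nodup_nil, and_true, not_false_eq_true]
    exact ⟨⟨Ne.symm hx, Ne.symm hy.1, fun e => hy.2 ((hgg y).symm.trans (congrArg g e.symm))⟩,
      ⟨Ne.symm hy.2, fun e => hy.1 (g.injective e).symm⟩, Ne.symm hyg⟩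
  obtain ⟨a, ha, hai⟩ := exists_to_base 4 (by norm_num) (fun i => [x, g x, y, g y].getD i none) (by
    intro i hi j hj h
    simp only [Set.mem_Iio] at hi hj
    simp only [List.getD_eq_getElem _ _ (show i < ([x, g x, y, g y] : List GolayPt).length from hi),
      List.getD_eq_getElem _ _ (show j < ([x, g x, y, g y] : List GolayPt).length from hj)] at h
    exact hnd.getElem_inj_iff.1 h)
  obtain ⟨hi2, -, -⟩ := start_images
  simp only [List.range_succ, List.range_zero, List.nil_append, List.cons_append, List.map_cons,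
    List.map_nil, List.cons.injEq, and_true] at hi2
  obtain ⟨e0, e1, e2, e3⟩ := hi2
  have hs : tabOK twoStart = true := by decide +kernel
  have a0 : a x = base 0 := hai 0 (by norm_num)
  have a1 : a (g x) = base 1 := hai 1 (by norm_num)
  have a2 : a y = base 2 := hai 2 (by norm_num)
  have a3 : a (g y) = base 3 := hai 3 (by norm_num)
  refine ⟨a, ha, fun i hi => ?_⟩
  interval_cases i
  · rw [conj_base a0, a1, tabPerm_base hs (m := 1) (by norm_num) (e0.trans rfl)]
  · rw [conj_base a1, hgg, a0, tabPerm_base hs (m := 0) (by norm_num) (e1.trans rfl)]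
  · rw [conj_base a2, a3, tabPerm_base hs (m := 3) (by norm_num) (e2.trans rfl)]
  · rw [conj_base a3, hgg, a2, tabPerm_base hs (m := 2) (by norm_num) (e3.trans rfl)]

theorem classify_three {g : Equiv.Perm GolayPt} (hg : g ∈ M24) (h3 : orderOf g = 3) :
    ∃ k ∈ M24, ∃ r ∈ threeReps, k * g * k⁻¹ = tabPerm r := by
  have hp : g ^ 3 = 1 := by rw [← h3]; exact pow_orderOf_eq_one g
  have h1 : g ≠ 1 := fun e => by simp [e] at h3
  have hggg : ∀ x, g (g (g x)) = x := fun x => by
    rw [← Equiv.Perm.mul_apply, ← Equiv.Perm.mul_apply, ← pow_three', hp, Equiv.Perm.one_apply]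
  refine classify three_check hg hp h1 ?_
  classical
  obtain ⟨x, hx⟩ := exists_moved h1
  obtain ⟨y, hy, hyg⟩ := exists_second hg h1 {x, g x, g (g x)} Finset.card_le_three
  simp only [Finset.mem_insert, Finset.mem_singleton, not_or] at hy
  have hx2 : g (g x) ≠ x := fun e => hx (by
    have := congrArg g e; rw [hggg] at this; exact this.symm)
  have hnd : ([x, g x, g (g x), y, g y] : List GolayPt).Nodup := by
    simp only [List.nodup_cons, List.mem_cons, List.not_mem_nil, or_false, not_or,
      List.nodup_nil, and_true, not_false_eq_true]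
    refine ⟨⟨Ne.symm hx, Ne.symm hx2, Ne.symm hy.1, fun e => hy.2.2 ?_⟩,
      ⟨fun e => hx (g.injective e).symm, Ne.symm hy.2.1, fun e => hy.1 (g.injective e).symm⟩,
      ⟨Ne.symm hy.2.2, fun e => hy.2.1 (g.injective e).symm⟩, Ne.symm hyg⟩
    rw [e, hggg]
  obtain ⟨a, ha, hai⟩ := exists_to_base 5 le_rfl (fun i => [x, g x, g (g x), y, g y].getD i none) (by
    intro i hi j hj h
    simp only [Set.mem_Iio] at hi hj
    simp only [List.getD_eq_getElem _ _
        (show i < ([x, g x, g (g x), y, g y] : List GolayPt).length from hi),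
      List.getD_eq_getElem _ _
        (show j < ([x, g x, g (g x), y, g y] : List GolayPt).length from hj)] at h
    exact hnd.getElem_inj_iff.1 h)
  obtain ⟨-, hi2, -⟩ := start_images
  simp only [List.range_succ, List.range_zero, List.nil_append, List.cons_append, List.map_cons,
    List.map_nil, List.cons.injEq, and_true] at hi2
  obtain ⟨e0, e1, e2, e3⟩ := hi2
  have hs : tabOK threeStart = true := by decide +kernel
  have a0 : a x = base 0 := hai 0 (by norm_num)
  have a1 : a (g x) = base 1 := hai 1 (by norm_num)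
  have a2 : a (g (g x)) = base 2 := hai 2 (by norm_num)
  have a3 : a y = base 3 := hai 3 (by norm_num)
  have a4 : a (g y) = base 4 := hai 4 (by norm_num)
  refine ⟨a, ha, fun i hi => ?_⟩
  interval_cases i
  · rw [conj_base a0, a1, tabPerm_base hs (m := 1) (by norm_num) (e0.trans rfl)]
  · rw [conj_base a1, a2, tabPerm_base hs (m := 2) (by norm_num) (e1.trans rfl)]
  · rw [conj_base a2, hggg, a0, tabPerm_base hs (m := 0) (by norm_num) (e2.trans rfl)]
  · rw [conj_base a3, a4, tabPerm_base hs (m := 4) (by norm_num) (e3.trans rfl)]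

theorem classify_seven {g : Equiv.Perm GolayPt} (hg : g ∈ M24) (h7 : orderOf g = 7) :
    ∃ k ∈ M24, ∃ r ∈ sevenReps, k * g * k⁻¹ = tabPerm r := by
  have hp : g ^ 7 = 1 := by rw [← h7]; exact pow_orderOf_eq_one g
  have h1 : g ≠ 1 := fun e => by simp [e] at h7
  refine classify seven_check hg hp h1 ?_
  obtain ⟨x, hx⟩ := exists_moved h1
  obtain ⟨a, ha, hai⟩ := exists_to_base 5 le_rfl (fun i => (g ^ i) x) (by
    intro i hi j hj h
    simp only [Set.mem_Iio] at hi hj
    suffices key : ∀ i j, i < 5 → j < 5 → i ≤ j → (g ^ i) x = (g ^ j) x → i = j by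
      rcases le_total i j with hle | hle
      · exact key i j hi hj hle h
      · exact (key j i hj hi hle h.symm).symm
    intro i j hi hj hij h
    by_contra hne
    refine hx ?_
    have h' : (g ^ (j - i)) x = x := by
      apply (g ^ i).injective
      rw [← Equiv.Perm.mul_apply, ← pow_add, Nat.add_sub_cancel' hij]
      exact h.symm
    have hcop : (j - i).Coprime (orderOf g) := by
      rw [h7]
      exact ((Nat.Prime.coprime_iff_not_dvd (by norm_num)).2 fun hd => by
        obtain ⟨c, hc⟩ := hd; omega).symm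
    obtain ⟨m, hm⟩ := exists_pow_eq_self_of_coprime hcop
    have hfix : ((g ^ (j - i)) ^ m) x = x := by
      clear hm
      induction m with
      | zero => rfl
      | succ m ih => rw [pow_succ, Equiv.Perm.mul_apply, h', ih]
    rwa [hm] at hfix)
  obtain ⟨-, -, hi2⟩ := start_images
  simp only [List.range_succ, List.range_zero, List.nil_append, List.cons_append, List.map_cons,
    List.map_nil, List.cons.injEq, and_true] at hi2
  obtain ⟨e0, e1, e2, e3⟩ := hi2
  have hs : tabOK sevenStart = true := by decide +kernel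
  refine ⟨a, ha, fun i hi => ?_⟩
  rw [conj_base (hai i (by omega)), ← Equiv.Perm.mul_apply g, ← pow_succ', hai (i + 1) (by omega)]
  interval_cases i
  · rw [tabPerm_base hs (m := 1) (by norm_num) (e0.trans rfl)]
  · rw [tabPerm_base hs (m := 2) (by norm_num) (e1.trans rfl)]
  · rw [tabPerm_base hs (m := 3) (by norm_num) (e2.trans rfl)]
  · rw [tabPerm_base hs (m := 4) (by norm_num) (e3.trans rfl)]

end Cfsg.Agent.M24Module.Classes
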