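import Mathlib
import Cfsg.Agent.Lib.Golay.AutBig

/-!
Linear automorphisms of the binary Golay code which fix the all-one word and map every word to a
permutation image of it or of its complement: they are given by one permutation, up to complements.
-/

set_option autoImplicit false
set_option maxRecDepth 10000

namespace Cfsg.Agent.M24Module.CodeAut

open Cfsg Cfsg.Agent.Golay.Basic Cfsg.Agent.Golay.Design Finset
open scoped Pointwise

local notation "Pt" => GolayPt

/-- The words of the code. -/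
abbrev Code : Type := ↥Cfsg.golayCode

/-- The all-one word. -/
def one : Code := ⟨fun _ => 1, Submodule.subset_span (Or.inr rfl)⟩

/-- The sum of the coordinates over a set of points. -/
noncomputable def evC (Y : Finset Pt) : Code →ₗ[ZMod 2] ZMod 2 :=
  (∑ p ∈ Y, LinearMap.proj p).comp Cfsg.golayCode.subtype

theorem evC_apply (Y : Finset Pt) (c : Code) : evC Y c = ∑ p ∈ Y, (c : Pt → ZMod 2) p := by
  simp [evC]

theorem sum_eq_card (Y : Finset Pt) (w : Pt → ZMod 2) :
    ∑ p ∈ Y, w p = (((Y ∩ support₂ w).card : ℕ) : ZMod 2) := by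
  conv_lhs => rw [← word_support₂ w]
  simp only [word, Finset.sum_ite_mem, Finset.sum_const, nsmul_eq_mul, mul_one]

theorem evC_card (Y : Finset Pt) (c : Code) :
    evC Y c = (((Y ∩ support₂ (c : Pt → ZMod 2)).card : ℕ) : ZMod 2) := by
  rw [evC_apply, sum_eq_card]

theorem evC_one (Y : Finset Pt) : evC Y one = (Y.card : ZMod 2) := by
  rw [evC_apply]; simp [one]

theorem even_check : (codeList.all fun m => (qrMasks ++ [16777215]).all fun b =>
    pc m != 8 || pc (m &&& b) % 2 == 0) = true := by decide +kernel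

theorem qr_mem : ∀ t, mask (support₂ (qrWord t)) ∈ qrMasks := by decide +kernel

theorem exists_other : ∀ p p' : GolayPt, ∃ q, p ≠ q ∧ p' ≠ q := by decide +kernel

theorem octad_orth {o : Finset Pt} (ho : o ∈ octads) : evC o = 0 := by
  refine LinearMap.ext fun c => ?_
  obtain ⟨hm, h8⟩ := mem_octads_iff.1 ho
  rw [card_eq_pc] at h8
  have hgen : ∀ b ∈ qrMasks ++ [16777215], ∀ w : Pt → ZMod 2, mask (support₂ w) = b →
      ∑ p ∈ o, w p = 0 := by
    intro b hb w hw
    have h1 := List.all_eq_true.1 (List.all_eq_true.1 even_check _ (mem_codeList hm)) b hb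
    rw [h8] at h1
    rw [sum_eq_card, card_eq_pc, mask_inter, hw, ← ZMod.natCast_mod]
    simp at h1
    rw [h1]; rfl
  rw [evC_apply, LinearMap.zero_apply]
  obtain ⟨w, hw⟩ := c
  show ∑ p ∈ o, w p = 0
  induction hw using Submodule.span_induction with
  | mem x hx =>
    rcases hx with ⟨t, rfl⟩ | rfl
    · exact hgen _ (List.mem_append_left _ (qr_mem t)) _ rfl
    · exact hgen _ (List.mem_append_right _ (List.mem_singleton_self _)) _ (by decide +kernel)
  | zero => simp
  | add x y _ _ hx hy => rw [show ∑ p ∈ o, (x + y) p = ∑ p ∈ o, x p + ∑ p ∈ o, y p from Finset.sum_add_distrib, hx, hy, add_zero]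
  | smul a x _ hx => simp only [Pi.smul_apply, smul_eq_mul, ← Finset.mul_sum, hx, mul_zero]

theorem evC_symmDiff (Y Z : Finset Pt) : evC (symmDiff Y Z) = evC Y + evC Z := by
  refine LinearMap.ext fun c => ?_
  rw [LinearMap.add_apply, evC_card, evC_card, evC_card]
  have h : symmDiff Y Z ∩ support₂ (c : Pt → ZMod 2) =
      symmDiff (Y ∩ support₂ (c : Pt → ZMod 2)) (Z ∩ support₂ (c : Pt → ZMod 2)) := by
    ext p
    simp only [Finset.mem_inter, Finset.mem_symmDiff]
    tauto
  rw [h]
  have h2 := congrArg (Nat.cast : ℕ → ZMod 2) (card_symmDiff_eq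
    (Y ∩ support₂ (c : Pt → ZMod 2)) (Z ∩ support₂ (c : Pt → ZMod 2)))
  push_cast at h2
  rw [show (2 : ZMod 2) = 0 from rfl, zero_mul, add_zero] at h2
  exact h2

/-- Every functional killing the all-one word is a sum over an even set of at most four points. -/
theorem classify (f : Code →ₗ[ZMod 2] ZMod 2) (hf : f one = 0) :
    ∃ Y : Finset Pt, (Y.card = 0 ∨ Y.card = 2 ∨ Y.card = 4) ∧ f = evC Y := by
  obtain ⟨g, hg⟩ := LinearMap.exists_extend f
  obtain ⟨S, hS⟩ : ∃ S : Finset Pt, f = evC S := by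
    refine ⟨Finset.univ.filter fun p => g (fun q => if p = q then 1 else 0) = 1,
      LinearMap.ext fun c => ?_⟩
    rw [← hg, evC_apply, LinearMap.comp_apply, Submodule.coe_subtype]
    conv_lhs => rw [pi_eq_sum_univ (c : Pt → ZMod 2)]
    rw [map_sum, Finset.sum_filter]
    refine Finset.sum_congr rfl fun p _ => ?_
    rw [map_smul, smul_eq_mul]
    have : ∀ a b : ZMod 2, a * b = if b = 1 then a else 0 := by decide
    exact this _ _
  induction hn : S.card using Nat.strong_induction_on generalizing S with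
  | _ n ih =>
    subst hn
    rcases Nat.lt_or_ge S.card 5 with h | h
    · refine ⟨S, ?_, hS⟩
      have h0 : ((S.card : ℕ) : ZMod 2) = 0 := by rw [← evC_one, ← hS, hf]
      have h1 := (ZMod.natCast_eq_zero_iff_even).1 h0
      obtain ⟨k, hk⟩ := h1
      omega
    · obtain ⟨T, hTS, hT⟩ := Finset.exists_subset_card_eq h
      obtain ⟨o, ⟨ho, hTo⟩, -⟩ := steiner_octads.2 T hT
      refine ih _ ?_ (symmDiff S o) (by rw [evC_symmDiff, octad_orth ho, add_zero, hS]) rfl
      have h1 := card_symmDiff_eq S o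
      have h2 : T.card ≤ (S ∩ o).card := Finset.card_le_card (Finset.subset_inter hTS hTo)
      rw [octad_card ho] at h1
      omega

/-- The number of octads on which a functional is one. -/
noncomputable def num (f : Code →ₗ[ZMod 2] ZMod 2) : ℕ :=
  {c : Code | (support₂ (c : Pt → ZMod 2)).card = 8 ∧ f c = 1}.ncard

theorem num_evC (Y : Finset Pt) :
    num (evC Y) = {o : Finset Pt | o ∈ octads ∧ (o ∩ Y).card % 2 = 1}.ncard := by
  have hinj : Function.Injective fun c : Code => support₂ (c : Pt → ZMod 2) := fun a b h => by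
    apply Subtype.ext
    rw [← word_support₂ (a : Pt → ZMod 2), ← word_support₂ (b : Pt → ZMod 2)]
    exact congrArg word h
  rw [num, ← Set.ncard_image_of_injective _ hinj]
  have hiff : ∀ k : ℕ, ((k : ℕ) : ZMod 2) = 1 ↔ k % 2 = 1 := fun k => by
    rw [← ZMod.natCast_mod]
    rcases Nat.mod_two_eq_zero_or_one k with h | h <;> simp [h]
  congr 1
  ext o
  constructor
  · rintro ⟨c, ⟨h8, h1⟩, rfl⟩
    rw [evC_card, hiff, Finset.inter_comm] at h1
    exact ⟨⟨⟨_, c.2, rfl⟩, h8⟩, h1⟩
  · rintro ⟨⟨⟨w, hw, rfl⟩, h8⟩, h1⟩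
    refine ⟨⟨w, hw⟩, ⟨h8, ?_⟩, rfl⟩
    rw [evC_card, hiff, Finset.inter_comm]
    exact h1

theorem num_smul {g : Equiv.Perm Pt} (hg : g ∈ M24) (Y : Finset Pt) :
    num (evC (g • Y)) = num (evC Y) := by
  have hle : ∀ g ∈ M24, ∀ Y : Finset Pt,
      {o : Finset Pt | o ∈ octads ∧ (o ∩ Y).card % 2 = 1}.ncard ≤
        {o : Finset Pt | o ∈ octads ∧ (o ∩ g • Y).card % 2 = 1}.ncard := by
    intro g hg Y
    refine Set.ncard_le_ncard_of_injOn (fun o => g • o) (fun o ho => ⟨Golay.M24.smul_mem_octads hg ho.1, ?_⟩)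
      ((MulAction.injective g).injOn) (Set.toFinite _)
    show (g • o ∩ g • Y).card % 2 = 1
    rw [← Finset.smul_finset_inter, Finset.card_smul_finset]
    exact ho.2
  rw [num_evC, num_evC]
  refine le_antisymm ?_ (hle g hg Y)
  have h := hle g⁻¹ (inv_mem hg) (g • Y)
  rwa [inv_smul_smul] at h

theorem num_zero : num (evC ∅) = 0 := by
  rw [num_evC]; simp

theorem num_std (Y : Finset Pt) (k : ℕ)
    (hk : (codeList.filter fun m => pc m == 8 && pc (m &&& mask Y) % 2 == 1).length = k) :
    num (evC Y) = k := by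
  rw [num_evC]
  exact ncard_code_filter' (fun m => pc m == 8 && pc (m &&& mask Y) % 2 == 1) _
    (fun s => by simp [mem_octads_iff, card_eq_pc, mask_inter, and_assoc]) k hk

theorem num_two {Y : Finset Pt} (h : Y.card = 2) : num (evC Y) = 352 := by
  obtain ⟨g, hg, rfl⟩ := Golay.AutBig.exists_image24 (T := {none, some 0}) (T' := Y)
    (by rw [h]; decide) (by decide)
  rw [num_smul hg]
  exact num_std _ _ (by decide +kernel)

theorem num_four {Y : Finset Pt} (h : Y.card = 4) : num (evC Y) = 384 := by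
  obtain ⟨g, hg, rfl⟩ := Golay.AutBig.exists_image24 (T := {none, some 0, some 1, some 2}) (T' := Y)
    (by rw [h]; decide) (by decide)
  rw [num_smul hg]
  exact num_std _ _ (by decide +kernel)

theorem pair_inj {P R : Finset Pt} (hP : P.card = 2) (hR : R.card = 2) (h : evC P = evC R) :
    P = R := by
  by_contra hne
  have h0 : evC (symmDiff P R) = evC ∅ := by
    rw [evC_symmDiff, h]
    refine LinearMap.ext fun c => ?_
    rw [LinearMap.add_apply, evC_apply ∅, Finset.sum_empty]
    exact CharTwo.add_self_eq_zero _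
  have h1 := congrArg num h0
  rw [num_zero] at h1
  have h2 := card_symmDiff_eq P R
  have h3 : (symmDiff P R).card ≠ 0 := fun h' => hne (symmDiff_eq_bot.1 (Finset.card_eq_zero.1 h'))
  have h4 : (symmDiff P R).card = 2 ∨ (symmDiff P R).card = 4 := by omega
  rcases h4 with h4 | h4
  · rw [num_two h4] at h1; omega
  · rw [num_four h4] at h1; omega

/-- A word is a permutation image of a word or of its complement. -/
def Orb (x : Code ≃ₗ[ZMod 2] Code) : Prop :=
  ∀ c : Code, ∃ σ ∈ Cfsg.M24, ((x c : Code) : Pt → ZMod 2) = (fun p => (c : Pt → ZMod 2) (σ.symm p)) ∨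
    ((x c : Code) : Pt → ZMod 2) = (fun p => (c : Pt → ZMod 2) (σ.symm p)) + fun _ => (1 : ZMod 2)

theorem num_comp_le {x : Code ≃ₗ[ZMod 2] Code} (hx : Orb x) (h1 : x one = one)
    (f : Code →ₗ[ZMod 2] ZMod 2) (hf : f one = 0) : num (f.comp x.toLinearMap) ≤ num f := by
  classical
  let π : Code → Code := fun c =>
    if (support₂ ((x c : Code) : Pt → ZMod 2)).card = 8 then x c else x c + one
  refine Set.ncard_le_ncard_of_injOn π ?_ ?_ (Set.toFinite _)
  · intro c hc
    obtain ⟨σ, -, h⟩ := hx c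
    have hσ : (support₂ fun p => (c : Pt → ZMod 2) (σ.symm p)).card = 8 := by
      rw [← hc.1]
      refine Finset.card_equiv σ.symm fun p => ?_
      simp [Cfsg.support₂]
    refine ⟨?_, ?_⟩
    · show (support₂ ((π c : Code) : Pt → ZMod 2)).card = 8
      simp only [π]
      split_ifs with h8
      · exact h8
      rcases h with h | h
      · exact absurd (by rw [h]; exact hσ) h8
      · rw [Submodule.coe_add, h, show ((one : Code) : Pt → ZMod 2) = fun _ => 1 from rfl, add_assoc,
          show ((fun _ => (1 : ZMod 2)) + fun _ => (1 : ZMod 2) : Pt → ZMod 2) = 0 from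
            funext fun _ => rfl, add_zero]
        exact hσ
    · have h2 : f (x c) = 1 := hc.2
      simp only [π]
      split_ifs
      · exact h2
      · rw [map_add, h2, hf, add_zero]
  · intro a ha b hb hab
    have key : ∀ u v : Code, (support₂ (u : Pt → ZMod 2)).card = 8 →
        (support₂ (v : Pt → ZMod 2)).card = 8 → x u = x v + one → False := by
      intro u v hu hv huv
      have h : u = v + one := x.injective (by rw [huv, map_add, h1])
      rw [h, Submodule.coe_add, support₂_add,
        show support₂ ((one : Code) : Pt → ZMod 2) = Finset.univ by decide] at hu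
      have h2 := card_symmDiff_eq (support₂ (v : Pt → ZMod 2)) Finset.univ
      rw [Finset.inter_univ, hu, hv, Finset.card_univ,
        show Fintype.card Pt = 24 by decide] at h2
      omega
    simp only [π] at hab
    split_ifs at hab
    · exact x.injective hab
    · exact (key a b ha.1 hb.1 hab).elim
    · exact (key b a hb.1 ha.1 hab.symm).elim
    · exact x.injective (add_right_cancel hab)

section

variable {x : Code ≃ₗ[ZMod 2] Code} (hx : Orb x) (hxs : Orb x.symm) (h1 : x one = one)
include hx hxs h1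

theorem exists_pair {P : Finset Pt} (hP : P.card = 2) :
    ∃ P' : Finset Pt, P'.card = 2 ∧ (evC P').comp x.toLinearMap = evC P := by
  have h1' : x.symm one = one := x.injective (by rw [x.apply_symm_apply, h1])
  set f := (evC P).comp x.symm.toLinearMap with hfdef
  have hP0 : evC P one = 0 := by rw [evC_one, hP]; rfl
  have hf : f one = 0 := by
    rw [hfdef, LinearMap.comp_apply, LinearEquiv.coe_coe, h1', hP0]
  have hback : f.comp x.toLinearMap = evC P := LinearMap.ext fun c => by simp [hfdef]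
  have hn : num f = 352 := le_antisymm
    (by rw [← num_two hP]; exact num_comp_le hxs h1' _ hP0)
    (by rw [← num_two hP, ← hback]; exact num_comp_le hx h1 _ hf)
  obtain ⟨Y, hY, he⟩ := classify f hf
  refine ⟨Y, ?_, by rw [← he, hback]⟩
  rcases hY with h | h | h
  · rw [he, Finset.card_eq_zero.1 h, num_zero] at hn; omega
  · exact h
  · rw [he, num_four h] at hn; omega

theorem exists_perm : ∃ σ ∈ Cfsg.M24, ∀ c : Code,
    ((x c : Code) : Pt → ZMod 2) = (fun p => (c : Pt → ZMod 2) (σ.symm p)) ∨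
    ((x c : Code) : Pt → ZMod 2) = (fun p => (c : Pt → ZMod 2) (σ.symm p)) + fun _ => (1 : ZMod 2) := by
  classical
  have htau : ∀ p q : Pt, p ≠ q → ∃ P' : Finset Pt, P'.card = 2 ∧
      (evC P').comp x.toLinearMap = evC {p, q} := fun p q h =>
    exists_pair hx hxs h1 (Finset.card_pair h)
  choose τ hτ2 hτ using htau
  have heq : ∀ (P R : Finset Pt), P.card = 2 → R.card = 2 →
      (evC P).comp x.toLinearMap = (evC R).comp x.toLinearMap → P = R := fun P R hP hR h =>
    pair_inj hP hR (LinearMap.ext fun c => by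
      have := LinearMap.congr_fun h (x.symm c)
      simpa using this)
  have hsymm : ∀ p q (h : p ≠ q), τ q p (Ne.symm h) = τ p q h := fun p q h =>
    heq _ _ (hτ2 _ _ _) (hτ2 _ _ _) (by rw [hτ, hτ, Finset.pair_comm])
  have hne : ∀ p q r (h : p ≠ q) (h' : p ≠ r), q ≠ r → τ p q h ≠ τ p r h' := by
    intro p q r h h' hqr he
    have h2 := hτ p q h
    rw [he, hτ] at h2
    have h3 := pair_inj (Finset.card_pair h') (Finset.card_pair h) h2
    have : r ∈ ({p, q} : Finset Pt) := h3 ▸ by simp
    simp [h'.symm, Ne.symm hqr] at this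
  have htri : ∀ p q r (h : p ≠ q) (h' : p ≠ r) (h'' : q ≠ r),
      symmDiff (τ p q h) (τ p r h') = τ q r h'' := by
    intro p q r h h' h''
    have hsum : evC ({p, q} : Finset Pt) + evC {p, r} = evC {q, r} := by
      refine LinearMap.ext fun c => ?_
      rw [LinearMap.add_apply, evC_apply, evC_apply, evC_apply, Finset.sum_pair h, Finset.sum_pair h',
        Finset.sum_pair h'']
      have : ∀ a b d : ZMod 2, a + b + (a + d) = b + d := by decide
      exact this _ _ _
    have he : (evC (symmDiff (τ p q h) (τ p r h'))).comp x.toLinearMap =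
        (evC (τ q r h'')).comp x.toLinearMap := by
      rw [evC_symmDiff, LinearMap.add_comp, hτ, hτ, hsum, hτ]
    have h2 := card_symmDiff_eq (τ p q h) (τ p r h')
    rw [hτ2, hτ2] at h2
    have hne0 : (symmDiff (τ p q h) (τ p r h')).card ≠ 0 := fun h0 =>
      hne p q r h h' h'' (symmDiff_eq_bot.1 (Finset.card_eq_zero.1 h0))
    refine heq _ _ ?_ (hτ2 _ _ _) he
    by_contra h4
    have h4' : (symmDiff (τ p q h) (τ p r h')).card = 4 := by omega
    have he' : evC (symmDiff (τ p q h) (τ p r h')) = evC (τ q r h'') := LinearMap.ext fun c => by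
      have := LinearMap.congr_fun he (x.symm c)
      simpa using this
    have := congrArg num he'
    rw [num_four h4', num_two (hτ2 _ _ _)] at this
    omega
  have hcommon : ∀ p, ∃ s, ∀ q (h : p ≠ q), s ∈ τ p q h := by
    intro p
    obtain ⟨q1, hq1, q2, hq2, h12⟩ :
        ∃ q1, p ≠ q1 ∧ ∃ q2, p ≠ q2 ∧ q1 ≠ q2 := by revert p; decide
    obtain ⟨s, hs⟩ : (τ p q1 hq1 ∩ τ p q2 hq2).Nonempty := by
      rw [← Finset.card_pos]
      have h2 := card_symmDiff_eq (τ p q1 hq1) (τ p q2 hq2)
      rw [htri p q1 q2 hq1 hq2 h12, hτ2, hτ2, hτ2] at h2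
      omega
    obtain ⟨hs1, hs2⟩ := Finset.mem_inter.1 hs
    refine ⟨s, fun q hq => ?_⟩
    rcases eq_or_ne q q1 with rfl | hq1'
    · exact hs1
    rcases eq_or_ne q q2 with rfl | hq2'
    · exact hs2
    by_contra hsq
    have meet : ∀ r (hr : p ≠ r), q ≠ r → s ∈ τ p r hr → ∃ a, a ≠ s ∧ τ p r hr = {s, a} ∧ a ∈ τ p q hq := by
      intro r hr hqr hsr
      obtain ⟨a, b, hab, he⟩ := Finset.card_eq_two.1 (hτ2 p r hr)
      have h2 := card_symmDiff_eq (τ p q hq) (τ p r hr)
      rw [htri p q r hq hr hqr, hτ2, hτ2, hτ2] at h2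
      obtain ⟨z, hz⟩ : (τ p q hq ∩ τ p r hr).Nonempty := by rw [← Finset.card_pos]; omega
      obtain ⟨hz1, hz2⟩ := Finset.mem_inter.1 hz
      have hzs : z ≠ s := fun h => hsq (h ▸ hz1)
      refine ⟨z, hzs, Finset.eq_of_subset_of_card_le ?_ ?_ |>.symm, hz1⟩
      · simp [Finset.insert_subset_iff, hsr, hz2]
      · rw [hτ2, Finset.card_pair hzs.symm]
    obtain ⟨a, ha, hea, haq⟩ := meet q1 hq1 hq1' hs1
    obtain ⟨b, hb, heb, hbq⟩ := meet q2 hq2 hq2' hs2
    have hab : a ≠ b := fun h => hne p q1 q2 hq1 hq2 h12 (by rw [hea, heb, h])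
    have hPq : τ p q hq = {a, b} := (Finset.eq_of_subset_of_card_le
      (by simp [Finset.insert_subset_iff, haq, hbq]) (by rw [hτ2, Finset.card_pair hab])).symm
    have h12' : τ q1 q2 h12 = {a, b} := by
      rw [← htri p q1 q2 hq1 hq2 h12, hea, heb]
      ext z
      simp only [Finset.mem_symmDiff, Finset.mem_insert, Finset.mem_singleton]
      constructor
      · rintro (⟨rfl | rfl, hz⟩ | ⟨rfl | rfl, hz⟩) <;> simp_all
      · rintro (rfl | rfl)
        · exact Or.inl ⟨Or.inr rfl, by simp [ha, hab]⟩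
        · exact Or.inr ⟨Or.inr rfl, by simp [hb, hab.symm]⟩
    have h2 := hτ q1 q2 h12
    rw [h12', ← hPq, hτ] at h2
    have h3 := pair_inj (Finset.card_pair hq) (Finset.card_pair h12) h2
    have : p ∈ ({q1, q2} : Finset Pt) := h3 ▸ by simp
    simp [hq1, hq2] at this
  choose σ hσ using hcommon
  have hσinj : Function.Injective σ := by
    intro p p' he
    by_contra hne'
    obtain ⟨q, hq, hq'⟩ : ∃ q, p ≠ q ∧ p' ≠ q := exists_other p p'
    have h2 := htri q p p' (Ne.symm hq) (Ne.symm hq') hne'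
    have hs := hσ p p' hne'
    rw [← h2, hsymm p q hq, hsymm p' q hq', Finset.mem_symmDiff] at hs
    rcases hs with ⟨-, hn⟩ | ⟨-, hn⟩
    · exact hn (he ▸ hσ p' q hq')
    · exact hn (hσ p q hq)
  let e : Equiv.Perm Pt := Equiv.ofBijective σ (Finite.injective_iff_bijective.1 hσinj)
  have hτeq : ∀ p q (h : p ≠ q), τ p q h = {σ p, σ q} := fun p q h =>
    (Finset.eq_of_subset_of_card_le
      (by simp [Finset.insert_subset_iff, hσ p q h, hsymm p q h ▸ hσ q p h.symm])
      (by rw [hτ2, Finset.card_pair (hσinj.ne h)])).symm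
  have hkey : ∀ c : Code, ((x c : Code) : Pt → ZMod 2) = (fun p => (c : Pt → ZMod 2) (e.symm p)) ∨
      ((x c : Code) : Pt → ZMod 2) = (fun p => (c : Pt → ZMod 2) (e.symm p)) + fun _ => (1 : ZMod 2) := by
    intro c
    set d := ((x c : Code) : Pt → ZMod 2)
    set ε := d (σ none) + (c : Pt → ZMod 2) none with hε
    have hconst : ∀ p, d (σ p) + (c : Pt → ZMod 2) p = ε := by
      intro p
      rcases eq_or_ne p none with rfl | hp
      · rfl
      have h := LinearMap.congr_fun (hτ p none hp) c
      rw [hτeq, LinearMap.comp_apply, LinearEquiv.coe_coe, evC_apply, evC_apply,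
        Finset.sum_pair (hσinj.ne hp), Finset.sum_pair hp] at h
      have : ∀ a b a' b' : ZMod 2, a + b = a' + b' → a + a' = b + b' := by decide
      exact this _ _ _ _ h
    have hd : ∀ p, d p = (c : Pt → ZMod 2) (e.symm p) + ε := fun p => by
      have h := hconst (e.symm p)
      rw [show σ (e.symm p) = p from e.apply_symm_apply p] at h
      have : ∀ a b k : ZMod 2, a + b = k → a = b + k := by decide
      exact this _ _ _ h
    rcases (by decide : ∀ k : ZMod 2, k = 0 ∨ k = 1) ε with h | h
    · exact Or.inl (funext fun p => by rw [hd, h, add_zero])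
    · exact Or.inr (funext fun p => by rw [hd, h]; rfl)
  refine ⟨e, ?_, hkey⟩
  show e • supports (golayCode : Set (Pt → ZMod 2)) = supports (golayCode : Set (Pt → ZMod 2))
  refine Set.eq_of_subset_of_ncard_le ?_ (by rw [Set.ncard_smul_set]) (Set.toFinite _)
  rintro _ ⟨_, ⟨w, hw, rfl⟩, rfl⟩
  refine ⟨fun p => w (e.symm p), ?_, ?_⟩
  · rcases hkey ⟨w, hw⟩ with h | h
    · exact h ▸ (x ⟨w, hw⟩).2
    · have hmem : ((x ⟨w, hw⟩ : Code) : Pt → ZMod 2) + (fun _ => (1 : ZMod 2)) ∈ golayCode :=
        golayCode.add_mem (x ⟨w, hw⟩).2 one.2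
      rwa [h, add_assoc, show ((fun _ => (1 : ZMod 2)) + fun _ => (1 : ZMod 2) : Pt → ZMod 2) = 0 from
        funext fun _ => rfl, add_zero] at hmem
  · ext p
    simp only [Finset.mem_smul_finset, Equiv.Perm.smul_def, mem_support₂]
    exact ⟨fun h => ⟨e.symm p, h, e.apply_symm_apply p⟩, fun ⟨q, hq, he⟩ => by
      rw [← he, e.symm_apply_apply]; exact hq⟩

end

end Cfsg.Agent.M24Module.CodeAut
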