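/-!
Tables of the sixteen elements fixing the standard octad pointwise, and a search tree for the
octads meeting the standard dodecad in six points.
-/

set_option autoImplicit false

namespace Cfsg.Agent.M24Module.FixData

/-- The sixteen elements. -/
def fix16 : List Nat :=
  [984818244535754528103549039458486304,
   479663310730678034207776437455390752,
   651239579074641248992907580101724192,
   944319304547998642267612847938832416,
   268195153026948482477577069584812064,
   772944516003414818434737759861180448,
   720981692062171673584743151055243296,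
   358662142733855540651195105552730144,
   812852730107173232200347929486133280,
   590072960059042287979885064796342304,
   561475773312554808336860583768983584,
   681942991418186671700734416290678816,
   892716570080838209712931004353710112,
   841384528646309054241536335100872736,
   380679813245078647833929983948064800,
   220213109803259289183002082616117280]

/-- Generators of the stabiliser of the standard dodecad. -/
def dodOctTabs : List Nat :=
  [818337767310522129159356495500061231,
   683656297517400566433905183068268642]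

/-- The search tree. -/
def dodOctCert : List (Nat × List (Nat × Nat)) :=
  [(8536111, [(0, 0), (0, 0), (0, 0), (0, 0), (0, 0), (0, 0), (0, 0), (0, 1), (0, 0), (0, 0), (0, 0), (0, 0), (0, 0), (0, 0), (0, 0), (0, 1), (0, 0), (0, 0), (0, 0), (0, 0), (0, 0), (0, 0), (0, 0), (0, 1), (0, 0), (0, 0), (0, 0), (0, 1), (0, 0), (0, 0), (0, 0), (0, 0), (0, 0), (0, 0), (0, 0), (0, 1), (0, 0), (0, 0), (0, 0), (0, 0), (0, 0), (0, 0), (0, 0), (1, 1), (0, 0), (0, 1), (0, 0), (0, 1), (0, 0), (0, 0), (0, 0), (0, 0), (0, 0), (0, 0), (0, 0), (0, 1), (0, 0), (0, 0), (0, 0), (0, 0), (0, 0), (0, 0), (0, 0), (1, 1), (0, 0), (0, 0), (0, 0), (0, 0), (0, 0), (0, 0), (0, 0), (0, 1), (0, 0), (0, 0), (0, 0), (0, 0), (0, 0), (0, 0), (0, 0), (0, 1), (0, 0), (0, 0), (0, 0), (0, 0), (0, 0), (0, 0), (0, 0), (2, 1), (0, 0), (0, 0), (0, 0), (0, 0), (0, 0), (0, 0), (0, 0), (0, 1), (0, 0), (0, 0), (0, 0), (0, 0), (0, 0), (0, 0), (0, 0), (13, 1), (0, 0), (0, 0), (0, 0), (9, 1), (0, 0), (0, 0), (0, 0), (0, 0), (0, 0), (0, 0), (0, 0), (0, 1), (0, 0), (0, 0), (0, 0), (0, 0), (0, 0), (0, 0),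 (0, 0), (4, 1), (0, 0), (0, 0), (0, 0), (50, 1), (0, 0), (0, 0), (0, 0)])]

end Cfsg.Agent.M24Module.FixData
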