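/-!
The seventy-two elements fixing the standard dodecad and three of its points.
-/

set_option autoImplicit false

namespace Cfsg.Agent.M24Module.NineData

/-- All seventy-two. -/
def nineTabs : List Nat :=
  [984818244535754528103549039458486304,
   596693935057177821627616253167372320,
   932855694972972591231736865702905888,
   523871016866241286772790268246722592,
   487616041172978902898937048930027552,
   312285355390548198233592884127434784,
   798866382324465456966349450561816608,
   680741985038306602728348918842755104,
   681796543885000279811851791679064096,
   805113713307206228850872452665280544,
   565402183042051720333472521821587488,
   898863637016762057656981700776265760,
   519969189361973090358309401101043744,
   487374150087885739724361845178861600,
   845957262214500392360261753352194080,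
   983553010088178266402939871779325984,
   940765866678579780067154313688057888,
   476055258459344907111646401759741984,
   845928067797247604214473723502331936,
   764874334996072903210197787885111328,
   610976555568331023305579807391287328,
   680499748993068815338029431726999584,
   561548127812915947332919300102228000,
   522606337502131146839831030052096032,
   984404951986650291017642929327245344,
   858491673708910280360910572945213472,
   940387876620171959146530426437568544,
   314922016620115819322493181774596128,
   902743922576251955819294689960724512,
   520017782183680231973171315858540576,
   763819876514324904847158402187855904,
   674252874117903267493297986162984992,
   523782664931053193994785216789645344,
   564023005545664326697793580208130080,
   806409259486058949597788387347171360,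
   983114479500887568959290245577345056,
   763572454081253855510494153451669536,
   610567220055306514578258606788085792,
   891304675830064775489958013723379744,
   944525678939461982464084020058818592,
   806614503716222059404752332486084640,
   674210696610656582747508359002589216,
   561514285162707442948266722614052896,
   899214583888558003150069357295700000,
   316178298519490163649902030864255008,
   932964751339393093364164438774777888,
   859801155349116146019819546429622304,
   609272950840352688830935139408414752,
   858949410588062151349278852544333856,
   596738379696408251190632149984348192,
   891440084380668137666183104591693856,
   316098014123586270379931508140017696,
   483844979127164432179002339570616352,
   522492210108188144275221261439862816,
   805354221574628851620458797573736480,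
   757325713155598790402528545518782496,
   483478665938771009345129227184539680,
   944294774572206856336090623719540768,
   860195471863206499356624230234228768,
   765073701293696166346404949835155488,
   970531819526550031117983620406741024,
   798823512074428879819889637572511776,
   565327430457899886561268023150544928,
   314798670943721923240829786132875296,
   609715322407751129443753868486281248,
   970579874927688723303984334079821856,
   903001293869635126013296170630678560,
   564150615848193157778515083214227488,
   475934640003503041669284490304325664,
   312324614376254462140892986289457184,
   757289066455260142361759855112914976,
   682000405645323456432232634794936352]

/-- An element of order four. -/
def quatA : Nat := 932855694972972591231736865702905888

/-- Another one, inverting the first. -/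
def quatB : Nat := 523871016866241286772790268246722592

end Cfsg.Agent.M24Module.NineData
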