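import Cfsg.Agent.Lib.M24Module.Trie
import Cfsg.Agent.Lib.Golay.Orbit
import Cfsg.Agent.Lib.Golay.Sextet

/-!
Orbits of subgroups of `M24` on configurations given by lists of masks, from search trees:
exact sizes, and the orbits as fibres of an invariant.
-/

set_option autoImplicit false
set_option maxRecDepth 10000

namespace Cfsg.Agent.M24Module.ObjOrbit

open Cfsg Cfsg.Agent.Golay.Basic Cfsg.Agent.Golay.M24 Cfsg.Agent.Golay.Cert Cfsg.Agent.Golay.Orbit
  Cfsg.Agent.Golay.Perm Cfsg.Agent.M24Module.Trie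
open scoped Pointwise

theorem imgAux_congr : ∀ (n tab m m' acc : ℕ), (∀ i < n, m.testBit i = m'.testBit i) →
    imgAux n tab m acc = imgAux n tab m' acc := by
  intro n tab m m' acc h
  apply Nat.eq_of_testBit_eq
  intro j
  rw [testBit_imgAux, testBit_imgAux]
  congr 1
  rw [Bool.eq_iff_iff]
  simp only [List.any_eq_true, List.mem_range, Bool.and_eq_true]
  exact ⟨fun ⟨i, hi, h1, h2⟩ => ⟨i, hi, h i hi ▸ h1, h2⟩,
    fun ⟨i, hi, h1, h2⟩ => ⟨i, hi, (h i hi).symm ▸ h1, h2⟩⟩

theorem smul_maskSet {x : ℕ} (hx : tabOK x = true) (m : ℕ) :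
    tabPerm x • maskSet m = maskSet (imgTab x m) := by
  have h : imgTab x m = imgTab x (mask (maskSet m)) := by
    refine imgAux_congr 24 x m _ 0 fun i hi => ?_
    conv_rhs => rw [← ix_pt hi, testBit_mask]
    rw [Bool.eq_iff_iff, decide_eq_true_eq, mem_maskSet, ix_pt hi]
  rw [h, imgTab_mask (isTab_tabPerm hx), maskSet_mask]

/-- A configuration: a set of point sets. -/
def obj (L : List ℕ) : Finset (Finset GolayPt) := (L.map maskSet).toFinset

theorem smul_obj {x : ℕ} (hx : tabOK x = true) (L : List ℕ) :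
    tabPerm x • obj L = obj (L.map (imgTab x)) := by
  ext s
  simp only [obj, List.mem_toFinset, List.mem_map, Finset.mem_smul_finset]
  constructor
  · rintro ⟨t, ⟨m, hm, rfl⟩, rfl⟩
    exact ⟨imgTab x m, ⟨m, hm, rfl⟩, (smul_maskSet hx m).symm⟩
  · rintro ⟨_, ⟨m, hm, rfl⟩, rfl⟩
    exact ⟨maskSet m, ⟨m, hm, rfl⟩, smul_maskSet hx m⟩

/-- The modulus of codes. -/
def modulus : ℕ := 4294967291

/-- A code number of a configuration. -/
def objCode (S : Finset (Finset GolayPt)) : ℕ := (∑ t ∈ S, mask t * mask t * mask t) % modulus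

/-- The code number from a list of masks. -/
def listCode (L : List ℕ) : ℕ := (L.map fun m => m * m * m).sum % modulus

/-- Admissible lists of masks. -/
def listOK (L : List ℕ) : Bool := L.all (fun m => decide (m < 2 ^ 24)) && decide L.Nodup

theorem objCode_obj {L : List ℕ} (h : listOK L = true) : objCode (obj L) = listCode L := by
  simp only [listOK, Bool.and_eq_true, List.all_eq_true, decide_eq_true_eq] at h
  have hinj : (L.map maskSet).Nodup := h.2.map_on fun a ha b hb e => by
    rw [← mask_maskSet (h.1 a ha), e, mask_maskSet (h.1 b hb)]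
  rw [objCode, obj, List.sum_toFinset _ hinj, listCode, List.map_map]
  congr 2
  refine List.map_congr_left fun m hm => ?_
  simp only [Function.comp_apply, mask_maskSet (h.1 m hm)]

/-- The action on lists. -/
def actList (x : ℕ) (L : List ℕ) : List ℕ := L.map (imgTab x)

variable {σ β : Type*} [MulAction (Equiv.Perm GolayPt) β]

theorem runOrb_rel {act : ℕ → σ → σ} {X : List ℕ} (hX : X.all tabOK = true) (f : σ → β)
    (hact : ∀ x, tabOK x = true → ∀ s, tabPerm x • f s = f (act x s)) (x0 : β) :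
    ∀ (cert : List (ℕ × ℕ)) (stack acc : List σ),
    (∀ s ∈ stack, ∃ g ∈ tabGroup X, g • x0 = f s) →
    (∀ s ∈ acc, ∃ g ∈ tabGroup X, g • x0 = f s) →
    ∀ s ∈ runOrb act X cert stack acc, ∃ g ∈ tabGroup X, g • x0 = f s
  | [], _, _, _, hacc, s, hs => hacc s hs
  | (k, j) :: rest, stack, acc, hst, hacc, s, hs => by
    simp only [runOrb] at hs
    split at hs
    · exact hacc s hs
    · next s' ss heq =>
      have hmem : ∀ t ∈ s' :: ss, t ∈ stack := fun t ht => List.mem_of_mem_drop (heq ▸ ht)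
      have hok : tabOK (genTab X j) = true := by
        rcases Nat.lt_or_ge j X.length with hk | hk
        · rw [genTab, List.getD_eq_getElem _ _ hk]
          exact List.all_eq_true.1 hX _ (List.getElem_mem hk)
        · rw [genTab, List.getD_eq_default _ _ hk]; decide +kernel
      have hy : ∃ g ∈ tabGroup X, g • x0 = f (act (genTab X j) s') := by
        obtain ⟨g, hg, e⟩ := hst s' (hmem s' List.mem_cons_self)
        refine ⟨tabPerm (genTab X j) * g, Subgroup.mul_mem _ ?_ hg, ?_⟩
        · simpa [evalT] using evalT_mem (X := X) [j]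
        · rw [mul_smul, e, hact _ hok]
      refine runOrb_rel hX f hact x0 rest _ _ ?_ ?_ s hs
      · intro t ht
        rcases List.mem_cons.1 ht with rfl | ht
        · exact hy
        · exact hst t (hmem t ht)
      · intro t ht
        rcases List.mem_cons.1 ht with rfl | ht
        · exact hy
        · exact hacc t ht

theorem orbitList_rel {act : ℕ → σ → σ} {X : List ℕ} (hX : X.all tabOK = true) (f : σ → β)
    (hact : ∀ x, tabOK x = true → ∀ s, tabPerm x • f s = f (act x s)) (r : σ)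
    (cert : List (ℕ × ℕ)) : ∀ s ∈ orbitList act X cert r, ∃ g ∈ tabGroup X, g • f r = f s := by
  have h0 : ∀ s ∈ [r], ∃ g ∈ tabGroup X, g • f r = f s := fun s hs => by
    rw [List.mem_singleton.1 hs]; exact ⟨1, Subgroup.one_mem _, one_smul _ _⟩
  exact runOrb_rel hX f hact (f r) cert _ _ h0 h0

/-- All trees together: nodes are admissible and have distinct codes; their total is `n`. -/
def treesOK {σ : Type*} (act : ℕ → σ → σ) (ok : σ → Bool) (cd : σ → ℕ) (X : List ℕ)
    (L : List (σ × List (ℕ × ℕ))) (sizes : List ℕ) : Bool :=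
  let ls := L.map fun rc => orbitList act X rc.2 rc.1
  ls.all (fun l => l.all ok) && distinct (ls.flatten.map cd) && ls.map List.length == sizes

theorem sum_ncard_le {ι γ : Type*} [Finite γ] (J : Finset ι) (A : ι → Set γ) (Ω : Set γ)
    (hsub : ∀ j ∈ J, A j ⊆ Ω) (hd : ∀ i ∈ J, ∀ j ∈ J, i ≠ j → Disjoint (A i) (A j)) :
    ∑ j ∈ J, (A j).ncard ≤ Ω.ncard := by
  classical
  haveI := Fintype.ofFinite γ
  simp only [Set.ncard_eq_toFinset_card']
  rw [← Finset.card_biUnion (fun i hi j hj hne => by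
    rw [Function.onFun, Set.disjoint_toFinset]
    exact hd i hi j hj hne)]
  exact Finset.card_le_card fun x hx => by
    obtain ⟨j, hj, hxj⟩ := Finset.mem_biUnion.1 hx
    exact Set.mem_toFinset.2 (hsub j hj (Set.mem_toFinset.1 hxj))

/-- Orbits from trees: each is the fibre of the invariant, of the size of its tree. -/
theorem orbits_of_cert [Finite β] {act : ℕ → σ → σ} (f : σ → β)
    (hact : ∀ x, tabOK x = true → ∀ s, tabPerm x • f s = f (act x s))
    (code : β → ℕ) (ok : σ → Bool) (cd : σ → ℕ) (hcode : ∀ s, ok s = true → code (f s) = cd s)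
    (H : Subgroup M24) {X : List ℕ} (hX : X.all tabOK = true)
    (hXH : ∀ g : M24, (g : Equiv.Perm GolayPt) ∈ tabGroup X → g ∈ H)
    (L : List (σ × List (ℕ × ℕ))) (sizes : List ℕ) (h : treesOK act ok cd X L sizes = true)
    (Ω : Set β) (hinvΩ : ∀ g : M24, g ∈ H → ∀ x ∈ Ω, g • x ∈ Ω)
    (hroots : ∀ rc ∈ L, f rc.1 ∈ Ω) (hN : Ω.ncard = sizes.sum)
    {κ : Type*} (key : β → κ) (hinv : ∀ g : M24, g ∈ H → ∀ x ∈ Ω, key (g • x) = key x)
    (hkeys : (L.map fun rc => key (f rc.1)).Nodup) :
    (∀ i (hi : i < L.length), MulAction.orbit H (f L[i].1) = {x | x ∈ Ω ∧ key x = key (f L[i].1)} ∧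
      (MulAction.orbit H (f L[i].1)).ncard = sizes.getD i 0) ∧
    ∀ x ∈ Ω, ∃ i, ∃ hi : i < L.length, x ∈ MulAction.orbit H (f L[i].1) := by
  classical
  simp only [treesOK, Bool.and_eq_true, List.all_eq_true, beq_iff_eq, List.mem_map,
    forall_exists_index, and_imp, forall_apply_eq_imp_iff₂] at h
  obtain ⟨⟨hok, hdist⟩, hlen⟩ := h
  have hnd := nodup_of_distinct hdist
  let ls := L.map fun rc => orbitList act X rc.2 rc.1
  change (ls.flatten.map cd).Nodup at hnd
  have horb : ∀ i (hi : i < L.length), MulAction.orbit H (f L[i].1) ⊆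
      {x | x ∈ Ω ∧ key x = key (f L[i].1)} := by
    rintro i hi x ⟨g, rfl⟩
    exact ⟨hinvΩ g.1 g.2 _ (hroots _ (List.getElem_mem hi)),
      hinv g.1 g.2 _ (hroots _ (List.getElem_mem hi))⟩
  have hlow : ∀ i (hi : i < L.length), sizes.getD i 0 ≤ (MulAction.orbit H (f L[i].1)).ncard := by
    intro i hi
    set l := orbitList act X L[i].2 L[i].1 with hl
    have hsz : sizes.getD i 0 = l.length := by
      rw [← hlen, List.getD_eq_getElem _ _ (by simpa using hi)]
      simp [hl]
    have hsubl : List.Sublist l ls.flatten :=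
      List.sublist_flatten_of_mem (List.mem_map.2 ⟨_, List.getElem_mem hi, rfl⟩)
    have hnd' : (l.map f).Nodup := by
      refine List.Nodup.of_map code ?_
      rw [List.map_map, List.map_congr_left (g := cd) fun s hs => ?_]
      · exact (hsubl.map cd).nodup hnd
      · exact hcode s (hok _ (List.getElem_mem hi) s hs)
    rw [hsz, ← List.length_map (f := f), ← List.toFinset_card_of_nodup hnd', ← Set.ncard_coe_finset]
    refine Set.ncard_le_ncard (fun x hx => ?_) (Set.toFinite _)
    obtain ⟨s, hs, rfl⟩ := List.mem_map.1 (List.mem_toFinset.1 hx)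
    obtain ⟨g, hg, e⟩ := orbitList_rel hX f hact L[i].1 L[i].2 s hs
    exact ⟨⟨⟨g, tabGroup_le_M24 hX hg⟩, hXH _ hg⟩, e⟩
  let A : Fin L.length → Set β := fun i => {x | x ∈ Ω ∧ key x = key (f L[i.1].1)}
  have hdisj : ∀ i j : Fin L.length, i ≠ j → Disjoint (A i) (A j) := by
    intro i j hne
    rw [Set.disjoint_left]
    intro x hxi hxj
    refine hne (Fin.ext ?_)
    have hi' : i.1 < (L.map fun rc => key (f rc.1)).length := by simp
    have hj' : j.1 < (L.map fun rc => key (f rc.1)).length := by simp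
    refine (hkeys.getElem_inj_iff (hi := hi') (hj := hj')).1 ?_
    simp only [List.getElem_map]
    exact hxi.2.symm.trans hxj.2
  have hsum := sum_ncard_le Finset.univ A Ω (fun i _ => fun x hx => hx.1)
    (fun i _ j _ => hdisj i j)
  have hsizes : sizes.sum = ∑ i : Fin L.length, sizes.getD i.1 0 := by
    have hl : sizes.length = L.length := by rw [← hlen]; simp
    rw [← hl]
    rw [show (fun i : Fin sizes.length => sizes.getD i.1 0) = fun i => sizes[i.1] from
      funext fun i => List.getD_eq_getElem _ _ i.2, Fin.sum_univ_getElem]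
  have hboth : ∀ i : Fin L.length,
      sizes.getD i.1 0 ≤ (MulAction.orbit H (f L[i.1].1)).ncard ∧
      (MulAction.orbit H (f L[i.1].1)).ncard ≤ (A i).ncard :=
    fun i => ⟨hlow _ i.2, Set.ncard_le_ncard (horb _ i.2) (Set.toFinite _)⟩
  have heq : ∀ i : Fin L.length, (A i).ncard = sizes.getD i.1 0 := by
    intro i
    refine le_antisymm ?_ ((hboth i).1.trans (hboth i).2)
    by_contra hlt
    have : ∑ j : Fin L.length, sizes.getD j.1 0 < ∑ j, (A j).ncard :=
      Finset.sum_lt_sum (fun j _ => (hboth j).1.trans (hboth j).2)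
        ⟨i, Finset.mem_univ i, Nat.lt_of_not_le hlt⟩
    omega
  have hfib : ∀ i : Fin L.length, MulAction.orbit H (f L[i.1].1) = A i := fun i =>
    Set.eq_of_subset_of_ncard_le (horb _ i.2) (by rw [heq i]; exact (hboth i).1) (Set.toFinite _)
  refine ⟨fun i hi => ⟨hfib ⟨i, hi⟩, by rw [hfib ⟨i, hi⟩, heq ⟨i, hi⟩]⟩, fun x hx => ?_⟩
  by_contra hno
  have hno' : ∀ i : Fin L.length, x ∉ A i := fun i hxi => hno ⟨i.1, i.2, (hfib i).symm ▸ hxi⟩
  have h' := sum_ncard_le (Finset.univ : Finset (Fin L.length)) A (Ω \ {x})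
    (fun i _ => fun y hy => ⟨hy.1, fun e => hno' i (Set.mem_singleton_iff.1 e ▸ hy)⟩)
    (fun i _ j _ => hdisj i j)
  rw [Set.ncard_sdiff_singleton_of_mem hx, Finset.sum_congr rfl fun i _ => heq i, ← hsizes, hN] at h'
  have hpos : 0 < Ω.ncard := (Set.ncard_pos (Set.toFinite _)).2 ⟨x, hx⟩
  omega

/-- Moving the point stabilised. -/
theorem orbit_transport {γ : Type*} [MulAction (Equiv.Perm GolayPt) γ] (a : M24) (v : γ) (x : β) :
    MulAction.orbit (MulAction.stabilizer M24 v) (a⁻¹ • x) =
      (fun y => a⁻¹ • y) '' MulAction.orbit (MulAction.stabilizer M24 (a • v)) x := by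
  ext y
  constructor
  · rintro ⟨g, rfl⟩
    refine ⟨(a * g.1 * a⁻¹) • x, ⟨⟨a * g.1 * a⁻¹, ?_⟩, rfl⟩, ?_⟩
    · rw [MulAction.mem_stabilizer_iff, mul_smul, inv_smul_smul, mul_smul, g.2]
    · show a⁻¹ • (a * g.1 * a⁻¹) • x = g.1 • a⁻¹ • x
      simp only [← mul_smul]; group
  · rintro ⟨_, ⟨g, rfl⟩, rfl⟩
    refine ⟨⟨a⁻¹ * g.1 * a, ?_⟩, ?_⟩
    · rw [MulAction.mem_stabilizer_iff, mul_smul, mul_smul, g.2, inv_smul_smul]
    · show (a⁻¹ * g.1 * a) • a⁻¹ • x = a⁻¹ • g.1 • x
      simp only [← mul_smul]; group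

theorem ncard_orbit_transport {γ : Type*} [MulAction (Equiv.Perm GolayPt) γ] (a : M24) (v : γ) (x : β) :
    (MulAction.orbit (MulAction.stabilizer M24 v) (a⁻¹ • x)).ncard =
      (MulAction.orbit (MulAction.stabilizer M24 (a • v)) x).ncard := by
  rw [orbit_transport, Set.ncard_image_of_injective _ (MulAction.injective a⁻¹)]

/-- A generator group inside a stabiliser. -/
theorem le_stabilizer_obj {X : List ℕ} (hX : X.all tabOK = true) {v : List ℕ}
    (h : (X.all fun x => v.all (fun m => (v.contains (imgTab x m)))) = true)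
    (g : M24) (hg : (g : Equiv.Perm GolayPt) ∈ tabGroup X) :
    g ∈ MulAction.stabilizer M24 (obj v) := by
  have hle : tabGroup X ≤ MulAction.stabilizer (Equiv.Perm GolayPt) (obj v) :=
    tabGroup_le_of fun x hx => by
      have hx' : tabOK x = true := List.all_eq_true.1 hX x hx
      show tabPerm x • obj v = obj v
      refine Finset.eq_of_subset_of_card_le ?_ (le_of_eq (Finset.card_smul_finset _ _).symm)
      rw [smul_obj hx']
      intro s hs
      simp only [obj, List.mem_toFinset, List.mem_map] at hs ⊢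
      obtain ⟨_, ⟨m, hm, rfl⟩, rfl⟩ := hs
      simp only [List.all_eq_true, List.contains_eq_mem, decide_eq_true_eq] at h
      exact ⟨imgTab x m, h x hx m hm, rfl⟩
  exact hle hg

end Cfsg.Agent.M24Module.ObjOrbit
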