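import Cfsg.Agent.Lib.M24Module.FixData
import Cfsg.Agent.Lib.M24Module.Basic

/-!
The pointwise fixer of an octad, pairs of octads, octad and dodecad: joint stabilisers.
-/

set_option autoImplicit false
set_option maxRecDepth 10000

namespace Cfsg.Agent.M24Module.OctadFix

open Cfsg Cfsg.Agent.Golay.Basic Cfsg.Agent.Golay.Design Cfsg.Agent.Golay.Perm Cfsg.Agent.Golay.M24
  Cfsg.Agent.Golay.M24Data Cfsg.Agent.Golay.Cert Cfsg.Agent.Golay.Orbit Cfsg.Agent.Golay.Trans
  Cfsg.Agent.Golay.OrbitData Cfsg.Agent.M24Module.FixData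
open scoped Pointwise

theorem fix16_match : (trans6.all fun w => fix16.any fun x =>
    (List.range 24).all fun i => tabAt x i == runWord w i) = true := by decide +kernel

theorem exists_fix16 {g : Equiv.Perm GolayPt} (hg : g ∈ fixers M24 (basePre 6)) :
    ∃ x ∈ fix16, IsTab x g := by
  obtain ⟨w, hw, rfl⟩ := eq_trans6 hg
  have h := fix16_match
  simp only [List.all_eq_true, List.any_eq_true, List.mem_range, beq_iff_eq] at h
  obtain ⟨x, hx, hxw⟩ := h w hw
  exact ⟨x, hx, fun p => by rw [ix_evalWord, hxw _ (ix_lt p)]⟩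

theorem eq_one_of_isTab {g : Equiv.Perm GolayPt} (h : IsTab idTab g) : g = 1 := h.unique isTab_one

/-- Fixing six points of an octad is fixing it pointwise, up to conjugation into `fixers 6`. -/
theorem exists_conj_fixers6 {o s : Finset GolayPt} (ho : o ∈ octads) (hs : s ⊆ o) (h6 : 6 ≤ s.card)
    {g : Equiv.Perm GolayPt} (hg : g ∈ M24) (hfix : ∀ p ∈ s, g p = p) :
    ∃ a ∈ M24, a • o = o0 ∧ a * g * a⁻¹ ∈ fixers M24 (basePre 6) := by
  classical
  obtain ⟨a, ha, hmem⟩ := exists_five (s := s) (by omega)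
  have hao : a • o = o0 := smul_eq_o0 ha ho fun x hx => hs (hmem x hx)
  obtain ⟨q, hq, hqn⟩ : ∃ q ∈ s, a q ∉ (basePre 5).toFinset := by
    by_contra hcon
    simp only [not_exists, not_and, not_not] at hcon
    have h1 : (s.image a).card ≤ (basePre 5).toFinset.card := Finset.card_le_card fun y hy => by
      obtain ⟨z, hz, rfl⟩ := Finset.mem_image.1 hy
      exact hcon z hz
    rw [Finset.card_image_of_injective _ a.injective] at h1
    have h2 := List.toFinset_card_le (basePre 5)
    have h3 : (basePre 5).length = 5 := rfl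
    omega
  have hqb : a q ∈ baseOrbit 5 :=
    Finset.mem_sdiff.2 ⟨by show a q ∈ o0; rw [← hao, mem_smul_iff]; exact hs hq, hqn⟩
  obtain ⟨h, hh, hhq⟩ := trans_exists (k := 5) (by norm_num) hqb
  have hh' : h⁻¹ ∈ fixers M24 (basePre 5) := inv_mem (fixers_mono genGroup_le _ hh)
  refine ⟨h⁻¹ * a, M24.mul_mem hh'.1 ha, ?_, ?_⟩
  · rw [mul_smul, hao]; exact baseOctad_fixed hh'
  · refine ⟨M24.mul_mem (M24.mul_mem (M24.mul_mem hh'.1 ha) hg) (M24.inv_mem (M24.mul_mem hh'.1 ha)),
      fun x hx => ?_⟩
    have key : ∀ z ∈ s, (h⁻¹ * a * g * (h⁻¹ * a)⁻¹) (h⁻¹ (a z)) = h⁻¹ (a z) := fun z hz => by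
      simp [hfix z hz]
    rcases List.mem_cons.1 hx with rfl | hx
    · have e : base 5 = h⁻¹ (a q) := by
        rw [← hhq, ← Equiv.Perm.mul_apply, inv_mul_cancel, Equiv.Perm.one_apply]
      rw [e]; exact key q hq
    · have e : x = h⁻¹ (a (a⁻¹ x)) := by
        rw [← Equiv.Perm.mul_apply a, mul_inv_cancel, Equiv.Perm.one_apply, hh'.2 x hx]
      rw [e]; exact key _ (hmem x hx)

theorem fix16_checks :
    (fix16.all fun x => x == idTab || octList.all fun m =>
      !(pc (m &&& baseOctad) == 2) || imgTab x m != m) = true ∧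
    (fix16.all fun x => x == idTab || codeList.all fun m =>
      !(pc m == 12 && pc (m &&& baseOctad) == 6) || imgTab x m != m) = true := by decide +kernel

/-- Nothing but the identity fixes six points of an octad and an octad meeting it in two. -/
theorem eq_one_of_fix_two {o o' s : Finset GolayPt} (ho : o ∈ octads) (ho' : o' ∈ octads)
    (h2 : (o ∩ o').card = 2) (hs : s ⊆ o) (h6 : 6 ≤ s.card) {g : Equiv.Perm GolayPt} (hg : g ∈ M24)
    (hfix : ∀ p ∈ s, g p = p) (hgo : g • o' = o') : g = 1 := by
  obtain ⟨a, ha, hao, h6'⟩ := exists_conj_fixers6 ho hs h6 hg hfix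
  obtain ⟨x, hx, hxt⟩ := exists_fix16 h6'
  have h := fix16_checks.1
  simp only [List.all_eq_true, Bool.or_eq_true, beq_iff_eq, Bool.not_eq_true', bne_iff_ne,
    beq_eq_false_iff_ne] at h
  rcases h x hx with rfl | hall
  · simpa using eq_one_of_isTab hxt
  · exfalso
    rcases hall _ (mask_mem_octList (smul_mem_octads ha ho')) with hne | hne
    · apply hne
      rw [← mask_maskSet (show baseOctad < 2 ^ 24 by decide +kernel), ← card_inter_eq_pc,
        Finset.inter_comm, show maskSet baseOctad = a • o from hao.symm, inter_smul_card, h2]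
    · apply hne
      rw [imgTab_mask hxt, mul_smul, mul_smul, inv_smul_smul, hgo]

/-- Nothing but the identity fixes six points of an octad and a dodecad meeting it in six. -/
theorem eq_one_of_fix_six {o d s : Finset GolayPt} (ho : o ∈ octads) (hd : d ∈ dodecads)
    (h2 : (o ∩ d).card = 6) (hs : s ⊆ o) (h6 : 6 ≤ s.card) {g : Equiv.Perm GolayPt} (hg : g ∈ M24)
    (hfix : ∀ p ∈ s, g p = p) (hgo : g • d = d) : g = 1 := by
  obtain ⟨a, ha, hao, h6'⟩ := exists_conj_fixers6 ho hs h6 hg hfix
  obtain ⟨x, hx, hxt⟩ := exists_fix16 h6'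
  have h := fix16_checks.2
  simp only [List.all_eq_true, Bool.or_eq_true, beq_iff_eq, Bool.not_eq_true', bne_iff_ne,
    Bool.and_eq_false_iff, beq_eq_false_iff_ne] at h
  rcases h x hx with rfl | hall
  · simpa using eq_one_of_isTab hxt
  · exfalso
    have hd' := mem_dodecads_iff.1 (smul_mem_dodecads ha hd)
    rcases hall _ (mem_codeList hd'.1) with (hne | hne) | hne
    · exact hne (by rw [← card_eq_pc, hd'.2])
    · apply hne
      rw [← mask_maskSet (show baseOctad < 2 ^ 24 by decide +kernel), ← card_inter_eq_pc,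
        Finset.inter_comm, show maskSet baseOctad = a • o from hao.symm, inter_smul_card, h2]
    · apply hne
      rw [imgTab_mask hxt, mul_smul, mul_smul, inv_smul_smul, hgo]

theorem index_mul {G : Type*} [Group G] {α : Type*} [MulAction G α] (x : α) :
    (MulAction.orbit G x).ncard * Nat.card (MulAction.stabilizer G x) = Nat.card G := by
  rw [← Subgroup.index_mul_card (MulAction.stabilizer G x), MulAction.index_stabilizer]

theorem card_stabilizer_octad {o : Finset GolayPt} (ho : o ∈ octads) :
    Nat.card (MulAction.stabilizer M24 o) = 322560 := by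
  have horb : MulAction.orbit M24 o = octads := by
    ext e
    constructor
    · rintro ⟨g, rfl⟩; exact smul_mem_octads g.2 ho
    · intro he
      obtain ⟨g, hg, rfl⟩ := octads_transitive ho he
      exact ⟨⟨g, hg⟩, rfl⟩
  have h := index_mul (G := M24) o
  rw [horb, octads_ncard, card_M24] at h
  omega

/-- The joint stabiliser, from the orbit of one under the stabiliser of the other. -/
theorem card_inf_stabilizer {α β : Type*} [MulAction (Equiv.Perm GolayPt) α]
    [MulAction (Equiv.Perm GolayPt) β] (x : α) (y : β) :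
    (MulAction.orbit (MulAction.stabilizer M24 x) y).ncard *
      Nat.card ↥(MulAction.stabilizer M24 x ⊓ MulAction.stabilizer M24 y) =
      Nat.card (MulAction.stabilizer M24 x) := by
  rw [← index_mul (G := MulAction.stabilizer M24 x) y]
  congr 1
  exact Nat.card_congr
    { toFun := fun g => ⟨⟨g.1, g.2.1⟩, g.2.2⟩
      invFun := fun g => ⟨g.1.1, g.1.2, g.2⟩
      left_inv := fun _ => rfl
      right_inv := fun _ => rfl }

theorem octCert_ok : octTabs.all tabOK = true ∧ stabOK octTabs [baseOctad] = true ∧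
    codeCoversOK octTabs octCert (fun m => pc (m &&& baseOctad)) 8 (fun _ => true) = true := by
  decide +kernel

/-- Octads at a given meeting number form one orbit. -/
theorem orbit_octad {o o' : Finset GolayPt} (ho : o ∈ octads) (ho' : o' ∈ octads) :
    MulAction.orbit (MulAction.stabilizer M24 o) o' =
      {u | u ∈ octads ∧ (o ∩ u).card = (o ∩ o').card} := by
  ext u
  constructor
  · rintro ⟨g, rfl⟩
    refine ⟨smul_mem_octads g.1.2 ho', ?_⟩
    show (o ∩ (g.1 : Equiv.Perm GolayPt) • o').card = _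
    conv_lhs => arg 1; arg 1; rw [← show (g.1 : Equiv.Perm GolayPt) • o = o from g.2]
    exact inter_smul_card _ _ _
  · rintro ⟨hu, he⟩
    obtain ⟨a, ha, hao⟩ := exists_smul_octad ho
    obtain ⟨hX, hst, hcov⟩ := octCert_ok
    have hkey : ∀ v, pc (mask (a • v) &&& baseOctad) = (o ∩ v).card := fun v => by
      rw [← mask_maskSet (show baseOctad < 2 ^ 24 by decide +kernel), ← card_inter_eq_pc, ← hao,
        inter_smul_card, Finset.inter_comm]
    obtain ⟨g, hg, e⟩ := transitive_of_codeCovers hX (w := 8) (by decide +kernel) hcov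
      (s := a • o') (t := a • u) (smul_mem_octads ha ho') (smul_mem_octads ha hu) rfl rfl
      (by rw [hkey, hkey, he])
    refine ⟨⟨⟨a⁻¹ * g * a,
      M24.mul_mem (M24.mul_mem (M24.inv_mem ha) (tabGroup_le_M24 hX hg)) ha⟩, ?_⟩, ?_⟩
    · show (a⁻¹ * g * a) • o = o
      rw [mul_smul, mul_smul, hao,
        tabGroup_stab hX hst (by decide +kernel) List.mem_cons_self hg, ← hao, inv_smul_smul]
    · show (a⁻¹ * g * a) • o' = u
      rw [mul_smul, mul_smul, e, inv_smul_smul]

theorem ncard_meeting {o : Finset GolayPt} (ho : o ∈ octads) {j n : ℕ}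
    (h : (codeList.filter fun m => pc m == 8 && pc (m &&& baseOctad) == j).length = n) :
    {u | u ∈ octads ∧ (o ∩ u).card = j}.ncard = n := by
  obtain ⟨a, ha, hao⟩ := exists_smul_octad ho
  rw [ncard_transport a (P := fun u => u ∈ octads ∧ (o ∩ u).card = j)
    (Q := fun t => t ∈ octads ∧ (pc (mask t &&& baseOctad) == j) = true) (fun u => by
      rw [mem_octads_smul ha, beq_iff_eq,
        ← mask_maskSet (show baseOctad < 2 ^ 24 by decide +kernel), ← card_inter_eq_pc, ← hao,
        inter_smul_card, Finset.inter_comm])]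
  exact count_weight 8 _ (fun m => pc (m &&& baseOctad) == j) (fun _ => Iff.rfl) h

theorem dodOctCert_ok : dodOctTabs.all tabOK = true ∧ stabOK dodOctTabs [baseDodecad] = true ∧
    codeCoversOK dodOctTabs dodOctCert (fun _ => 0) 8 (fun m => pc (m &&& baseDodecad) == 6) = true ∧
    (codeList.filter fun m => pc m == 8 && pc (m &&& baseDodecad) == 6).length = 132 := by
  decide +kernel

theorem ncard_orbit_hexad {o d : Finset GolayPt} (ho : o ∈ octads) (hd : d ∈ dodecads)
    (h6 : (o ∩ d).card = 6) : (MulAction.orbit (MulAction.stabilizer M24 d) o).ncard = 132 := by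
  obtain ⟨a, ha, had⟩ := dodecads_transitive hd baseDodecad_mem
  obtain ⟨hX, hst, hcov, hn⟩ := dodOctCert_ok
  have hkey : ∀ v, (pc (mask (a • v) &&& baseDodecad) == 6) = true ↔ (v ∩ d).card = 6 := fun v => by
    rw [beq_iff_eq, ← mask_maskSet (show baseDodecad < 2 ^ 24 by decide +kernel), ← card_inter_eq_pc,
      ← had, inter_smul_card]
  have horb : MulAction.orbit (MulAction.stabilizer M24 d) o = {u | u ∈ octads ∧ (u ∩ d).card = 6} := by
    ext u
    constructor
    · rintro ⟨g, rfl⟩
      refine ⟨smul_mem_octads g.1.2 ho, ?_⟩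
      show ((g.1 : Equiv.Perm GolayPt) • o ∩ d).card = _
      conv_lhs => arg 1; arg 2; rw [← show (g.1 : Equiv.Perm GolayPt) • d = d from g.2]
      rw [inter_smul_card, h6]
    · rintro ⟨hu, he⟩
      obtain ⟨g, hg, e⟩ := transitive_of_codeCovers hX (w := 8) (by decide +kernel) hcov
        (s := a • o) (t := a • u) (smul_mem_octads ha ho) (smul_mem_octads ha hu)
        ((hkey o).2 h6) ((hkey u).2 he) rfl
      refine ⟨⟨⟨a⁻¹ * g * a,
        M24.mul_mem (M24.mul_mem (M24.inv_mem ha) (tabGroup_le_M24 hX hg)) ha⟩, ?_⟩, ?_⟩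
      · show (a⁻¹ * g * a) • d = d
        rw [mul_smul, mul_smul, had,
          tabGroup_stab hX hst (by decide +kernel) List.mem_cons_self hg, ← had, inv_smul_smul]
      · show (a⁻¹ * g * a) • o = u
        rw [mul_smul, mul_smul, e, inv_smul_smul]
  rw [horb, ncard_transport a (P := fun u => u ∈ octads ∧ (u ∩ d).card = 6)
    (Q := fun t => t ∈ octads ∧ (pc (mask t &&& baseDodecad) == 6) = true)
    (fun u => by rw [mem_octads_smul ha, hkey])]
  exact count_weight 8 _ (fun m => pc (m &&& baseDodecad) == 6) (fun _ => Iff.rfl) hn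

/-- The permutations of a set induced by a group. -/
def restrictHom (H : Subgroup M24) (s : Finset GolayPt)
    (hinv : ∀ g ∈ H, ∀ p, ((g : M24) : Equiv.Perm GolayPt) p ∈ s ↔ p ∈ s) : H →* Equiv.Perm s where
  toFun g := (g.1 : Equiv.Perm GolayPt).subtypePerm (hinv g.1 g.2)
  map_one' := Equiv.ext fun _ => Subtype.ext rfl
  map_mul' _ _ := Equiv.ext fun _ => Subtype.ext rfl

/-- A faithful group of order `|s|!` on a set induces its symmetric group. -/
theorem nonempty_equiv_perm (H : Subgroup M24) (s : Finset GolayPt) {n : ℕ} (hs : s.card = n)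
    (hinv : ∀ g ∈ H, ∀ p, ((g : M24) : Equiv.Perm GolayPt) p ∈ s ↔ p ∈ s)
    (hfaith : ∀ g ∈ H, (∀ p ∈ s, ((g : M24) : Equiv.Perm GolayPt) p = p) → g = 1)
    (hcard : Nat.card H = n.factorial) : Nonempty (H ≃* Equiv.Perm (Fin n)) := by
  have hinj : Function.Injective (restrictHom H s hinv) := by
    rw [injective_iff_map_eq_one]
    intro g hg
    refine Subtype.ext (hfaith g.1 g.2 fun p hp => ?_)
    exact congrArg Subtype.val (Equiv.Perm.ext_iff.1 hg ⟨p, hp⟩)
  have hbij : Function.Bijective (restrictHom H s hinv) :=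
    hinj.bijective_of_nat_card_le (by
      rw [Nat.card_perm, Nat.card_eq_fintype_card, Fintype.card_coe, hs, hcard])
  exact ⟨(MulEquiv.ofBijective _ hbij).trans (Equiv.permCongrHom (s.equivFinOfCardEq hs))⟩

theorem inv_sdiff {g : M24} {o o' : Finset GolayPt} (ho : g • o = o) (ho' : g • o' = o')
    (p : GolayPt) : (g : Equiv.Perm GolayPt) p ∈ o \ o' ↔ p ∈ o \ o' := by
  have e : (g : Equiv.Perm GolayPt) • (o \ o') = o \ o' := by
    rw [Finset.smul_finset_sdiff, show (g : Equiv.Perm GolayPt) • o = o from ho,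
      show (g : Equiv.Perm GolayPt) • o' = o' from ho']
  conv_lhs => rw [← e]
  exact mem_smul_iff _ _ _

end Cfsg.Agent.M24Module.OctadFix
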