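import Cfsg.Agent.Lib.M24Module.Config

/-!
Orbit decompositions at an arbitrary configuration, from those at a standard one.
-/

set_option autoImplicit false
set_option maxRecDepth 10000

namespace Cfsg.Agent.M24Module.Orbits

open Cfsg Cfsg.Agent.Golay.Basic Cfsg.Agent.Golay.M24 Cfsg.Agent.Golay.Cert Cfsg.Agent.Golay.Orbit
  Cfsg.Agent.M24Module.ObjOrbit Cfsg.Agent.M24Module.Config
open scoped Pointwise

/-- The transported decomposition. -/
theorem orbits_at {γ : Type*} [MulAction (Equiv.Perm GolayPt) γ] {v : γ} {a : M24}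
    (H0 : Subgroup M24) (hH0 : H0 = MulAction.stabilizer M24 (a • v))
    {L : List (List ℕ × List (ℕ × ℕ))} {sizes : List ℕ} {Ω : Set (Finset (Finset GolayPt))}
    (hinvΩ : ∀ g : M24, ∀ x ∈ Ω, g • x ∈ Ω) (hroots : ∀ rc ∈ L, obj rc.1 ∈ Ω)
    (h : (∀ i (hi : i < L.length), (MulAction.orbit H0 (obj L[i].1)).ncard = sizes.getD i 0) ∧
      ∀ x ∈ Ω, ∃ i, ∃ hi : i < L.length, x ∈ MulAction.orbit H0 (obj L[i].1)) :
    ∃ X : Fin L.length → Finset (Finset GolayPt), (∀ i, X i ∈ Ω) ∧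
      (∀ i, (MulAction.orbit (MulAction.stabilizer M24 v) (X i)).ncard = sizes.getD i.1 0) ∧
      ∀ x, x ∈ Ω ↔ ∃ i, x ∈ MulAction.orbit (MulAction.stabilizer M24 v) (X i) := by
  subst hH0
  refine ⟨fun i => a⁻¹ • obj L[i.1].1, fun i => hinvΩ _ _ (hroots _ (List.getElem_mem i.2)),
    fun i => by rw [ncard_orbit_transport]; exact h.1 i i.2, fun x => ⟨fun hx => ?_, ?_⟩⟩
  · obtain ⟨i, hi, hxi⟩ := h.2 (a • x) (hinvΩ a x hx)
    exact ⟨⟨i, hi⟩, by rw [orbit_transport]; exact ⟨a • x, hxi, inv_smul_smul a x⟩⟩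
  · rintro ⟨i, g, rfl⟩
    exact hinvΩ g.1 _ (hinvΩ _ _ (hroots _ (List.getElem_mem i.2)))

/-- Pulling the octads out of their one-element configurations. -/
theorem octad_orbits {n : ℕ} {sizes : List ℕ} {H : Subgroup M24}
    {X : Fin n → Finset (Finset GolayPt)} (hX : ∀ i, X i ∈ octConf)
    (hn : ∀ i, (MulAction.orbit H (X i)).ncard = sizes.getD i.1 0)
    (hu : ∀ x, x ∈ octConf ↔ ∃ i, x ∈ MulAction.orbit H (X i)) :
    ∃ Y : Fin n → Finset GolayPt, (∀ i, Y i ∈ octads) ∧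
      (∀ i, (MulAction.orbit H (Y i)).ncard = sizes.getD i.1 0) ∧
      ∀ y, y ∈ octads ↔ ∃ i, y ∈ MulAction.orbit H (Y i) := by
  choose Y hY hYX using hX
  refine ⟨Y, hY, fun i => by rw [← hn i, ← hYX i, ncard_orbit_singleton], fun y => ⟨fun hy => ?_, ?_⟩⟩
  · obtain ⟨i, hi⟩ := (hu {y}).1 ⟨y, hy, rfl⟩
    rw [← hYX i, orbit_singleton] at hi
    obtain ⟨z, hz, e⟩ := hi
    exact ⟨i, (Finset.singleton_inj.1 e) ▸ hz⟩
  · rintro ⟨i, g, rfl⟩
    exact smul_mem_octads g.1.2 (hY i)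

end Cfsg.Agent.M24Module.Orbits
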