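import Mathlib

/-!
A binary trie on the low bits of natural numbers, used to check that a list has no repetition.
-/

set_option autoImplicit false

namespace Cfsg.Agent.M24Module.Trie

/-- A set of bit strings. -/
inductive Trie where
  | leaf : Trie
  | node : Trie → Trie → Trie

/-- The two children, a leaf counting as empty. -/
def Trie.kids : Trie → Trie × Trie
  | .leaf => (.leaf, .leaf)
  | .node l r => (l, r)

/-- Membership of the low `f` bits of `k`. -/
def mem : ℕ → ℕ → Trie → Bool
  | 0, _, .leaf => false
  | 0, _, .node _ _ => true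
  | f + 1, k, t => mem f (k / 2) (if k % 2 == 0 then t.kids.1 else t.kids.2)

/-- Insertion, failing if the key is present. -/
def ins : ℕ → ℕ → Trie → Option Trie
  | 0, _, .leaf => some (.node .leaf .leaf)
  | 0, _, .node _ _ => none
  | f + 1, k, t =>
    if k % 2 == 0 then (ins f (k / 2) t.kids.1).map fun l => .node l t.kids.2
    else (ins f (k / 2) t.kids.2).map fun r => .node t.kids.1 r

theorem ins_spec : ∀ (f k : ℕ) (t t' : Trie), ins f k t = some t' →
    mem f k t = false ∧ mem f k t' = true ∧ ∀ j, mem f j t = true → mem f j t' = true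
  | 0, k, .leaf, t', h => by
    simp only [ins, Option.some.injEq] at h
    subst h
    exact ⟨rfl, rfl, fun j hj => rfl⟩
  | 0, k, .node _ _, t', h => by simp [ins] at h
  | f + 1, k, t, t', h => by
    simp only [ins] at h
    split at h
    · next hk =>
      obtain ⟨l, hl, rfl⟩ := Option.map_eq_some_iff.1 h
      obtain ⟨h1, h2, h3⟩ := ins_spec f _ _ _ hl
      refine ⟨by simp [mem, hk, h1], by simp [mem, hk, Trie.kids, h2], fun j hj => ?_⟩
      simp only [mem] at hj ⊢
      split at hj
      · next hj2 => simp [hj2, Trie.kids, h3 _ hj]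
      · next hj2 => simp [hj2, Trie.kids]; exact hj
    · next hk =>
      obtain ⟨r, hr, rfl⟩ := Option.map_eq_some_iff.1 h
      obtain ⟨h1, h2, h3⟩ := ins_spec f _ _ _ hr
      refine ⟨by simp [mem, hk, h1], by simp [mem, hk, Trie.kids, h2], fun j hj => ?_⟩
      simp only [mem] at hj ⊢
      split at hj
      · next hj2 => simp [hj2, Trie.kids]; exact hj
      · next hj2 => simp [hj2, Trie.kids, h3 _ hj]

/-- Insert a list. -/
def insAll (f : ℕ) : List ℕ → Trie → Option Trie
  | [], t => some t
  | k :: ks, t =>
    match ins f k t with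
    | none => none
    | some t' => insAll f ks t'

theorem insAll_spec (f : ℕ) : ∀ (L : List ℕ) (t : Trie), (insAll f L t).isSome = true →
    L.Nodup ∧ ∀ k ∈ L, mem f k t = false
  | [], _, _ => ⟨List.nodup_nil, by simp⟩
  | k :: ks, t, h => by
    simp only [insAll] at h
    split at h
    · simp at h
    · next t' hk =>
      obtain ⟨h1, h2, h3⟩ := ins_spec f k t t' hk
      obtain ⟨hn, hall⟩ := insAll_spec f ks t' h
      refine ⟨List.nodup_cons.2 ⟨fun hm => ?_, hn⟩, fun j hj => ?_⟩
      · simp [hall k hm] at h2
      · rcases List.mem_cons.1 hj with rfl | hj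
        · exact h1
        · cases hc : mem f j t with
          | false => rfl
          | true => exact absurd (hall j hj) (by simp [h3 j hc])

/-- All keys are distinct. -/
def distinct (L : List ℕ) : Bool := (insAll 32 L .leaf).isSome

theorem nodup_of_distinct {L : List ℕ} (h : distinct L = true) : L.Nodup :=
  (insAll_spec 32 L _ h).1

end Cfsg.Agent.M24Module.Trie
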