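/-!
A chain of trios through the standard octad, with generators and search trees.
-/

set_option autoImplicit false

namespace Cfsg.Agent.M24Module.TrioChainData

/-- Trio number 0. -/
def t0 : List Nat := [5279, 1009728, 15762208]

/-- Generators of the fixer of the earlier trios. -/
def gens0 : List Nat :=
  [403920953319351844344146444748359780, 225438648953465644933433280485788896]

/-- Its search tree, of 15 nodes. -/
def cert0 : List (Nat × Nat) :=
  [(0, 0), (0, 0), (0, 0), (0, 0), (0, 0), (0, 1), (0, 0), (0, 0), (0, 0), (0, 0), (0, 0), (7, 1), (0, 0), (0, 0)]

/-- Trio number 1. -/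
def t1 : List Nat := [5279, 1256224, 15515712]

/-- Generators of the fixer of the earlier trios. -/
def gens1 : List Nat :=
  [721023985038053678009635899394293891, 860837970322987685491341498148588930]

/-- Its search tree, of 14 nodes. -/
def cert1 : List (Nat × Nat) :=
  [(0, 0), (0, 1), (0, 1), (0, 0), (0, 0), (0, 0), (0, 1), (0, 0), (0, 1), (0, 0), (0, 0), (0, 0), (5, 1)]

/-- Trio number 2. -/
def t2 : List Nat := [5279, 2220640, 14551296]

/-- Generators of the fixer of the earlier trios. -/
def gens2 : List Nat :=
  [842801833369228620790721785291119619, 687145601825833242141900839304003722, 687216416938111574160761040767330307]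

/-- Its search tree, of 12 nodes. -/
def cert2 : List (Nat × Nat) :=
  [(0, 0), (0, 0), (0, 1), (0, 0), (0, 0), (0, 1), (0, 0), (0, 0), (0, 1), (0, 0), (0, 0)]

/-- Trio number 3. -/
def t3 : List Nat := [5279, 4645632, 12126304]

/-- Generators of the fixer of the earlier trios. -/
def gens3 : List Nat :=
  [721103846994689232478211016845657156, 561232384398732374474962419016862954, 892716570080838209712931004353710112, 479662043111510085921831158587337091, 220205503588964008656249856470296963, 944334554731352033220641466060509185]

/-- Its search tree, of 8 nodes. -/
def cert3 : List (Nat × Nat) :=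
  [(0, 0), (0, 1), (0, 0), (0, 3), (0, 0), (0, 1), (0, 0)]

/-- The fifteen trios through the standard octad. -/
def fifteen : List (List Nat) :=
  [[5279, 1009728, 15762208], [5279, 1256224, 15515712], [5279, 1852256, 14919680], [5279, 2220640, 14551296], [5279, 3050016, 13721920], [5279, 3328320, 13443616], [5279, 4038912, 12733024], [5279, 4645632, 12126304], [5279, 4819776, 11952160], [5279, 5621792, 11150144], [5279, 5939296, 10832640], [5279, 6750560, 10021376], [5279, 6842656, 9929280], [5279, 7612992, 9158944], [5279, 8077824, 8694112]]

/-- Generators of the joint stabiliser of the standard octad and trio. -/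
def pairGens : List Nat :=
  [731482119510713170330223349652785281, 983560690413690240104772419155210375]

/-- A trio through the standard octad other than the standard one, and its search tree. -/
def pairCert : List (List Nat × List (Nat × Nat)) :=
  [([5279, 1256224, 15515712], [(0, 0), (0, 0), (0, 0), (0, 0), (0, 0), (0, 0), (0, 1), (0, 0), (0, 0), (0, 0), (0, 0), (0, 0), (0, 0)])]

end Cfsg.Agent.M24Module.TrioChainData
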